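import Cfsg.Agent.Lib.M24SylQ.Fused

/-!
The abelian subgroup of order 64 is strongly closed: the involutions whose centre is not fully normalized.
-/

set_option autoImplicit false
set_option linter.style.haveILetI false
set_option linter.unusedSectionVars false

namespace Cfsg.Agent.M24SylQ

open Subgroup Cfsg.Agent.ClosedAbelian

variable {G : Type*} [Group G] [Finite G] {S : Sylow 2 G} {A : Subgroup G} {isC : G → Prop}

theorem sylow_not_dvd_relIndex (S : Sylow 2 G) {N : Subgroup G} (h : (S : Subgroup G) ≤ N) :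
    ¬ 2 ∣ (S : Subgroup G).relIndex N := fun hd =>
  S.not_dvd_index (hd.trans (relIndex_dvd_index_of_le h))

variable (D : Setting S A isC)
include D

/-- The central coset is not fused into `A`. -/
theorem Setting.central_case {a g : G} (ha : a ∈ A) (h : isC (g * a * g⁻¹)) : False := by
  obtain ⟨hS, hA⟩ := D.shape.isC_mem _ h
  have hsq : g * a * g⁻¹ * (g * a * g⁻¹) = 1 := by
    rw [show g * a * g⁻¹ * (g * a * g⁻¹) = g * (a * a) * g⁻¹ by group, D.shape.ea a ha, mul_one,
      mul_inv_cancel]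
  obtain ⟨c, hc, W0, hcC⟩ := D.shape.wit _ hS hA hsq
  have hN := W0.central (hcC h)
  refine D.full_case W0 ?_ ha (g := c * g) (by group)
  rw [nSub, inf_eq_left.2 hN]
  exact sylow_not_dvd_relIndex S hN

/-- `A` is strongly closed in `S`. -/
theorem Setting.mem_of_mem {a g : G} (ha : a ∈ A) (hS : g * a * g⁻¹ ∈ (S : Subgroup G)) :
    g * a * g⁻¹ ∈ A := by
  by_contra hA
  have hsq : g * a * g⁻¹ * (g * a * g⁻¹) = 1 := by
    rw [show g * a * g⁻¹ * (g * a * g⁻¹) = g * (a * a) * g⁻¹ by group, D.shape.ea a ha, mul_one,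
      mul_inv_cancel]
  obtain ⟨c, hc, W0, -⟩ := D.shape.wit _ hS hA hsq
  obtain ⟨g, y, hgy, hW0⟩ : ∃ g' y : G, g' * a * g'⁻¹ = y ∧ Wit (S : Subgroup G) A isC y :=
    ⟨c * g, _, by group, W0⟩
  clear hS hA hsq W0 hc c
  have hnc : ¬ isC y := fun h => D.central_case ha (g := g) (hgy ▸ h)
  set T := tSub (S : Subgroup G) y with hT
  set W := wSub (S : Subgroup G) y with hW
  set N := normalizer (W : Set G) with hN
  set U := nSub (S : Subgroup G) W with hU
  have hWT : W ≤ T := inf_le_left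
  have hTS : T ≤ (S : Subgroup G) := inf_le_left
  have hyT : y ∈ T := mem_inf.2 ⟨hW0.mem, mem_centralizer_singleton_iff.2 rfl⟩
  have hyW : y ∈ W := mem_inf.2 ⟨hyT, mem_centralizer_iff.2 fun t ht =>
    mem_centralizer_singleton_iff.1 (mem_inf.1 ht).2⟩
  by_cases hU' : ¬ 2 ∣ U.relIndex N
  · exact D.full_case hW0 hU' ha hgy
  rw [not_not] at hU'
  -- a conjugate of `W` that is normal in `S`
  obtain ⟨R, hR⟩ := ((S.2.to_le (inf_le_left : U ≤ _)).comap_subtype (K := N)).exists_le_sylow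
  set R' := (R : Subgroup ↥N).map N.subtype with hR'
  have hUN : U ≤ N := inf_le_right
  have hUR : U ≤ R' := fun x hx => ⟨⟨x, hUN hx⟩, hR (mem_subgroupOf.2 hx), rfl⟩
  have hne : U ≠ R' := fun h => R.not_dvd_index (by
    have : U.subgroupOf N = (R : Subgroup ↥N) :=
      Subgroup.map_injective N.subtype_injective (by rw [map_subgroupOf_eq_of_le hUN, h])
    rw [← this]
    exact hU')
  obtain ⟨m, hm⟩ := LESylow.exists_conj_le (R.2.map N.subtype : IsPGroup 2 ↥R') S
  have hmem : ∀ x ∈ R', m * x * m⁻¹ ∈ (S : Subgroup G) := fun x hx => hm ⟨x, hx, rfl⟩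
  have hTU : T ≤ U := le_inf hTS (fun t ht => centralizer_le_normalizer _ (mem_centralizer_iff.2
    fun w hw => (mem_centralizer_iff.1 (mem_inf.1 hw).2 t ht).symm))
  set W' := W.map (MulAut.conj m).toMonoidHom with hW'
  set T' := T.map (MulAut.conj m).toMonoidHom with hT'
  have hW'S : W' ≤ (S : Subgroup G) := by
    rintro _ ⟨x, hx, rfl⟩; exact hmem x (hUR (hTU (hWT hx)))
  have hT'S : T' ≤ (S : Subgroup G) := by
    rintro _ ⟨x, hx, rfl⟩; exact hmem x (hUR (hTU hx))
  have hT'W' : ∀ x ∈ T', ∀ w ∈ W', x * w = w * x := by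
    rintro _ ⟨t, ht, rfl⟩ _ ⟨w, hw, rfl⟩
    show MulAut.conj m t * MulAut.conj m w = MulAut.conj m w * MulAut.conj m t
    rw [← map_mul, ← map_mul, mem_centralizer_iff.1 (mem_inf.1 hw).2 t ht]
  have hcardW' : Nat.card W' = 16 := by rw [hW', LEBasic.card_map_conj, hW0.card_w hnc]
  have hcardT' : Nat.card T' = 64 := by rw [hT', LEBasic.card_map_conj, hW0.card_t hnc]
  have hW'sq : ∀ x ∈ W', x * x = 1 := by
    rintro _ ⟨w, hw, rfl⟩
    show MulAut.conj m w * MulAut.conj m w = 1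
    rw [← map_mul, hW0.sq w hw, map_one]
  obtain ⟨a₀, ha₀, b₀, hb₀, hab₀⟩ := hW0.nonab hnc
  have hnab : ¬ ∀ p ∈ T', ∀ q ∈ T', p * q = q * p := fun h => hab₀ ((MulAut.conj m).injective (by
    rw [map_mul, map_mul]; exact h _ ⟨a₀, ha₀, rfl⟩ _ ⟨b₀, hb₀, rfl⟩))
  have hnorm : (S : Subgroup G) ≤ normalizer (W' : Set G) := by
    have h256 : 256 ≤ Nat.card U := hW0.big hnc
    have hlt := card_lt_of_lt (lt_of_le_of_ne hUR hne)
    set M := R'.map (MulAut.conj m).toMonoidHom with hM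
    have hMS : M ≤ (S : Subgroup G) := hm
    have hcM : 256 < Nat.card M := by rw [hM, LEBasic.card_map_conj]; omega
    have hMeq : M = (S : Subgroup G) := by
      refine eq_of_le_of_card_ge hMS ?_
      obtain ⟨k, hk⟩ := Subgroup.card_dvd_of_le hMS
      rw [D.shape.card_S] at hk ⊢
      rcases k with _ | _ | k
      · omega
      · omega
      · nlinarith
    rw [← hMeq]
    exact (map_mono (map_subtype_le (R : Subgroup ↥N))).trans (le_normalizer_map _)
  have hB8 : Nat.card ↥(A ⊓ W) * 2 = 16 := hW0.half.trans (hW0.card_w hnc)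
  by_cases hW'A : W' ≤ A
  · -- `W'` is the centralizer in `A` of the central coset
    have hiC : ∀ t ∈ T', t ∉ A → isC t ∧ W' = A ⊓ centralizer ({t} : Set G) := by
      intro t ht htA
      have hle : W' ≤ A ⊓ centralizer ({t} : Set G) := fun w hw =>
        mem_inf.2 ⟨hW'A hw, mem_centralizer_singleton_iff.2 (hT'W' t ht w hw).symm⟩
      have h16 := Subgroup.card_le_of_le hle
      rw [hcardW'] at h16
      have heq : W' = A ⊓ centralizer ({t} : Set G) := eq_of_le_of_card_ge hle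
        ((D.shape.small t (hT'S ht) htA).trans hcardW'.ge)
      refine ⟨by_contra fun htC => ?_, heq⟩
      obtain ⟨s, hs, b, hb, hbt, hsb⟩ := D.shape.notNormal t (hT'S ht) htA htC h16
      have h1 : b ∈ W' := heq ▸ mem_inf.2 ⟨hb, mem_centralizer_singleton_iff.2 hbt⟩
      have h2 := (mem_normalizer_iff.1 (hnorm hs) b).1 h1
      rw [heq] at h2
      exact hsb (mem_centralizer_singleton_iff.1 (mem_inf.1 h2).2)
    set B := T' ⊓ A with hB
    have hBT : B ≤ T' := inf_le_left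
    obtain ⟨t₀, ht₀, ht₀A⟩ : ∃ t ∈ T', t ∉ A := by
      by_contra! h
      exact hnab fun p hp q hq => D.shape.comm p (h p hp) q (h q hq)
    obtain ⟨hC₀, hW₀⟩ := hiC t₀ ht₀ ht₀A
    have hcardB : Nat.card B = 32 := by
      have hidx : (B.subgroupOf T').index = 2 := index_eq_two_iff.2 ⟨⟨t₀, ht₀⟩, fun x => by
        simp only [mem_subgroupOf, Subgroup.coe_mul]
        by_cases hx : (x : G) ∈ A
        · refine Or.inr ⟨mem_inf.2 ⟨x.2, hx⟩, fun h => ht₀A ?_⟩
          simpa using mul_mem (inv_mem hx) (mem_inf.1 h).2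
        · exact Or.inl ⟨mem_inf.2 ⟨mul_mem x.2 ht₀, D.shape.isC_mul _ _ (hiC _ x.2 hx).1 hC₀⟩,
            fun h => hx (mem_inf.1 h).2⟩⟩
      have h1 := (B.subgroupOf T').card_mul_index
      rw [hidx, Nat.card_congr (subgroupOfEquivOfLe hBT).toEquiv, hcardT'] at h1
      omega
    have hW'B : W' ≤ B := le_inf (map_mono hWT) hW'A
    have hBn : (S : Subgroup G) ≤ normalizer (B : Set G) := Subgroup.le_normalizer_iff.2 fun s hs b hb => by
      have hbA := (mem_inf.1 hb).2
      have hsA : s * b * s⁻¹ ∈ A := (mem_normalizer_iff.1 (D.shape.normal hs) b).1 hbA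
      have h1 : s * b * s⁻¹ * b ∈ W' := by
        rw [hW₀]
        exact mem_inf.2 ⟨mul_mem hsA hbA, mem_centralizer_singleton_iff.2
          (D.shape.commC t₀ hC₀ b hbA s hs)⟩
      have h2 := mul_mem (hW'B h1) (inv_mem hb)
      simpa using h2
    have hBc : ∀ x ∈ (S : Subgroup G), (∀ b ∈ B, x * b = b * x) → x ∈ A := fun x hx hc =>
      by_contra fun hxA => by
        have h := Subgroup.card_le_of_le (show B ≤ A ⊓ centralizer ({x} : Set G) from fun b hb =>
          mem_inf.2 ⟨(mem_inf.1 hb).2, mem_centralizer_singleton_iff.2 (hc b hb).symm⟩)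
        have := D.shape.small x hx hxA
        omega
    -- the preimage is the elementary subgroup on `y`
    obtain ⟨E, hE, hE32, hEc, hEsq, hEn⟩ := hW0.elem hnc
    set E' := B.map (MulAut.conj m⁻¹).toMonoidHom with hE'
    have hmE' : ∀ x ∈ E', m * x * m⁻¹ ∈ B := by
      rintro _ ⟨b, hb, rfl⟩
      show m * (m⁻¹ * b * m⁻¹⁻¹) * m⁻¹ ∈ B
      simpa [mul_assoc] using hb
    have hE'T : E' ≤ T := by
      rintro _ ⟨b, hb, rfl⟩
      obtain ⟨t, ht, hbt⟩ := (mem_inf.1 hb).1
      show m⁻¹ * b * m⁻¹⁻¹ ∈ T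
      rw [← hbt]
      simpa [mul_assoc] using ht
    have hnotC : ∀ x ∈ E', ¬ isC x := by
      rintro _ ⟨b, hb, rfl⟩ h
      exact D.central_case (mem_inf.1 hb).2 (g := m⁻¹) h
    have hyE' : y ∈ E' := ⟨m * y * m⁻¹, hW'B ⟨y, hyW, rfl⟩, by simp [mul_assoc]⟩
    have hEE' : E' = E := by
      refine eq_of_le_of_card_ge (fun x hx => (hE x).2 ⟨hE'T hx, ?_⟩) ?_
      · rcases hW0.dich hnc x (hE'T hx) with h | h | h | h
        · exact Or.inl h
        · exact Or.inr h
        · exact absurd h (hnotC x hx)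
        · exact absurd h (hnotC _ (mul_mem hx hyE'))
      · rw [hE32, hE', LEBasic.card_map_conj, hcardB]
    -- the normalizer of `E` inside `N(B)`
    set NE := nSub (S : Subgroup G) E with hNE
    set Q := NE.map (MulAut.conj m).toMonoidHom with hQ
    have hQB : Q ≤ normalizer (B : Set G) := by
      have hBE : E.map (MulAut.conj m).toMonoidHom = B := by
        rw [← hEE', hE', LEBasic.map_conj_map_conj, mul_inv_cancel, LEBasic.map_conj_one]
      rw [← hBE]
      exact (map_mono inf_le_right).trans (le_normalizer_map _)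
    obtain ⟨c, hc, hcle⟩ := LESylow.exists_conj_le_of_le hQB ((S.2.to_le inf_le_left).map _)
      (S.subtype hBn)
    rw [Sylow.coe_subtype, map_subgroupOf_eq_of_le hBn, hQ, LEBasic.map_conj_map_conj] at hcle
    set h := c * m with hh
    set Q' := NE.map (MulAut.conj h).toMonoidHom with hQ'
    have hBh : ∀ x ∈ E, h * x * h⁻¹ ∈ B := fun x hx => by
      rw [← hEE'] at hx
      have := (mem_normalizer_iff.1 hc _).1 (hmE' x hx)
      simpa [hh, mul_assoc] using this
    have hEB : E.map (MulAut.conj h).toMonoidHom = B := eq_of_le_of_card_ge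
      (by rintro _ ⟨x, hx, rfl⟩; exact hBh x hx) (by rw [LEBasic.card_map_conj, hE32, hcardB])
    have hQ'A : Nat.card ↥(Q' ⊓ A) ≤ 32 := by
      rw [← hE32]
      refine le_of_le_of_eq (Subgroup.card_le_of_le ?_) (LEBasic.card_map_conj E h)
      intro x hx
      obtain ⟨⟨e, he, rfl⟩, hxA⟩ := mem_inf.1 hx
      refine ⟨e, hEc e (mem_inf.1 he).1 fun z hz => ?_, rfl⟩
      have h1 : h * e * h⁻¹ * (h * z * h⁻¹) = h * z * h⁻¹ * (h * e * h⁻¹) :=
        D.shape.comm _ hxA _ (mem_inf.1 (hBh z hz)).2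
      calc e * z = h⁻¹ * (h * e * h⁻¹ * (h * z * h⁻¹)) * h := by group
        _ = h⁻¹ * (h * z * h⁻¹ * (h * e * h⁻¹)) * h := by rw [h1]
        _ = z * e := by group
    have hprod := PushUp.card_sup_eq (H := Q') (K := A) (hcle.trans D.shape.normal)
    have hSup : Q' ⊔ A = (S : Subgroup G) := by
      refine eq_of_le_of_card_ge (sup_le hcle D.le) ?_
      rw [D.shape.card_S]
      have h1 : 256 ≤ Nat.card Q' := by rw [hQ', LEBasic.card_map_conj]; exact hEn
      rw [D.shape.card_A] at hprod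
      by_contra! hlt
      nlinarith [Nat.card_pos (α := ↥(Q' ⊓ A)), Nat.card_pos (α := ↥(Q' ⊔ A))]
    obtain ⟨s, hs, hs4⟩ := D.shape.four
    rw [← hSup, ← SetLike.mem_coe,
      coe_mul_of_left_le_normalizer_right Q' A (hcle.trans D.shape.normal)] at hs
    obtain ⟨q, hq, a', ha', rfl⟩ := hs
    refine hs4 ?_
    have hqS := hcle hq
    obtain ⟨e, he, rfl⟩ := hq
    have h2 : h * (e * e) * h⁻¹ ∈ A := (mem_inf.1 (hBh _ (hEsq e he))).2
    have h3 := (mem_normalizer_iff.1 (D.shape.normal (inv_mem hqS)) a').1 ha'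
    have h4 := mul_mem (mul_mem h2 h3) ha'
    convert h4 using 1
    show h * e * h⁻¹ * a' * (h * e * h⁻¹ * a') =
      h * (e * e) * h⁻¹ * ((h * e * h⁻¹)⁻¹ * a' * (h * e * h⁻¹)⁻¹⁻¹) * a'
    group
  · -- `W'` has eight elements in the central coset
    have hiC : ∀ x ∈ W', x ∉ A → isC x := by
      intro x hx hxA
      by_contra hxC
      refine hnab fun p hp q hq =>
        D.shape.classC x (hW'S hx) hxA (hW'sq x hx) hxC p (hT'S hp) q (hT'S hq) ?_ ?_ <;>
      exact fun s hs => hT'W' _ (by assumption) _ ((mem_normalizer_iff.1 (hnorm hs) x).1 hx)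
    obtain ⟨x₀, hx₀, hx₀A⟩ := SetLike.not_le_iff_exists.1 hW'A
    have hBW' : (W' ⊓ A).map (MulAut.conj m⁻¹).toMonoidHom = A ⊓ W := by
      have hidx : ((W' ⊓ A).subgroupOf W').index = 2 := index_eq_two_iff.2 ⟨⟨x₀, hx₀⟩, fun x => by
        simp only [mem_subgroupOf, Subgroup.coe_mul]
        by_cases hx : (x : G) ∈ A
        · refine Or.inr ⟨mem_inf.2 ⟨x.2, hx⟩, fun h => hx₀A ?_⟩
          simpa using mul_mem (inv_mem hx) (mem_inf.1 h).2
        · exact Or.inl ⟨mem_inf.2 ⟨mul_mem x.2 hx₀,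
            D.shape.isC_mul _ _ (hiC _ x.2 hx) (hiC _ hx₀ hx₀A)⟩, fun h => hx (mem_inf.1 h).2⟩⟩
      have h8 := ((W' ⊓ A).subgroupOf W').card_mul_index
      rw [hidx, Nat.card_congr (subgroupOfEquivOfLe inf_le_left).toEquiv, hcardW'] at h8
      refine (eq_of_le_of_card_ge (fun b hb => ?_) ?_).symm
      · refine ⟨m * b * m⁻¹, mem_inf.2 ⟨⟨b, (mem_inf.1 hb).2, rfl⟩, by_contra fun hA' => ?_⟩,
          by simp [mul_assoc]⟩
        exact D.central_case (mem_inf.1 hb).1 (g := m) (hiC _ ⟨b, (mem_inf.1 hb).2, rfl⟩ hA')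
      · rw [LEBasic.card_map_conj]
        omega
    have hy' : m * y * m⁻¹ ∉ A := fun h => hW0.out (mem_inf.1 (hBW' ▸
      (⟨m * y * m⁻¹, mem_inf.2 ⟨⟨y, hyW, rfl⟩, h⟩, by simp [mul_assoc]⟩ :
        y ∈ (W' ⊓ A).map (MulAut.conj m⁻¹).toMonoidHom) : y ∈ A ⊓ W)).1
    refine D.central_case ha (g := m * g) ?_
    have h := hiC _ ⟨y, hyW, rfl⟩ hy'
    rw [← hgy] at h
    convert h using 1
    show m * g * a * (m * g)⁻¹ = m * (g * a * g⁻¹) * m⁻¹
    group

/-- `A` is strongly closed with respect to its normalizer. -/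
theorem Setting.closed : ∀ a ∈ A, ∀ g : G, g * a * g⁻¹ ∈ normalizer (A : Set G) → g * a * g⁻¹ ∈ A := by
  intro a ha g hg
  have hA2 : IsPGroup 2 ↥A := S.2.to_le D.le
  have hx : TwoEl (g * a * g⁻¹) := (twoEl_of_sq (D.shape.ea a ha)).conj g
  obtain ⟨c, hc⟩ := LESylow.exists_conj_le
    (hA2.to_sup_of_normal_left' hx.isPGroup (zpowers_le.2 hg)) S
  have hcA : A.map (MulAut.conj c).toMonoidHom = A := D.uniq _
    (le_trans (map_mono le_sup_left) hc) (⟨⟨by
      rintro ⟨_, u, hu, rfl⟩ ⟨_, v, hv, rfl⟩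
      exact Subtype.ext (show MulAut.conj c u * MulAut.conj c v = MulAut.conj c v * MulAut.conj c u by
        rw [← map_mul, ← map_mul, D.shape.comm u hu v hv])⟩⟩)
    (by rw [LEBasic.card_map_conj, D.shape.card_A])
  have h1 : c * g * a * (c * g)⁻¹ ∈ (S : Subgroup G) := by
    have := hc ⟨_, mem_sup_right (mem_zpowers (g * a * g⁻¹)), rfl⟩
    simpa [mul_assoc] using this
  have h2 := D.mem_of_mem ha h1
  have h3 : c * (g * a * g⁻¹) * c⁻¹ ∈ A := by simpa [mul_assoc] using h2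
  exact (mem_normalizer_iff.1 (LEBasic.map_conj_eq_iff_mem_normalizer.1 hcA) _).2 h3

end Cfsg.Agent.M24SylQ
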