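import Cfsg.Agent.Lib.M24SylQ.Coord
import Mathlib.GroupTheory.Sylow

/-!
Coordinates of a 2-group of this type inside a group.
-/

set_option autoImplicit false

namespace Cfsg.Agent.M24SylQ

variable {G : Type*} [Group G]

/-- `el` parametrizes `S` by the numbers below 512, the numbers below 64 giving `A`. -/
structure Place (S A : Subgroup G) (el : ℕ → G) : Prop where
  le : A ≤ S
  mem : ∀ n < 512, el n ∈ S
  surj : ∀ x ∈ S, ∃ n < 512, el n = x
  inj : ∀ n < 512, ∀ m < 512, el n = el m → n = m
  mul : ∀ n < 512, ∀ m < 512, el (mN n m) = el n * el m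
  memA : ∀ n < 512, el n ∈ A ↔ n < 64

end Cfsg.Agent.M24SylQ
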