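import Mathlib.GroupTheory.Sylow
import Mathlib.GroupTheory.Index

/-!
The properties of the pair (2-group, abelian subgroup of order 64) used in the proof that the abelian
subgroup is strongly closed.
-/

set_option autoImplicit false

namespace Cfsg.Agent.M24SylQ

open Subgroup

variable {G : Type*} [Group G]

/-- The centralizer of `y` in `S`. -/
def tSub (S : Subgroup G) (y : G) : Subgroup G := S ⊓ centralizer ({y} : Set G)

/-- The centre of the centralizer of `y` in `S`. -/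
def wSub (S : Subgroup G) (y : G) : Subgroup G := tSub S y ⊓ centralizer (tSub S y : Set G)

/-- The normalizer in `S` of a subgroup. -/
def nSub (S W : Subgroup G) : Subgroup G := S ⊓ normalizer (W : Set G)

/-- What is known about an involution `y` of `S` outside `A`. -/
structure Wit (S A : Subgroup G) (isC : G → Prop) (y : G) : Prop where
  mem : y ∈ S
  out : y ∉ A
  sq : ∀ w ∈ wSub S y, w * w = 1
  half : Nat.card ↥(A ⊓ wSub S y) * 2 = Nat.card (wSub S y)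
  norm_sq : ∀ u ∈ nSub S (wSub S y), u * u ∈ tSub S y
  norm_fix : ∀ u ∈ nSub S (wSub S y), ∀ b ∈ A ⊓ wSub S y, u * b * u⁻¹ = b
  movers : ∃ u ∈ nSub S (wSub S y), ∃ v ∈ nSub S (wSub S y),
    u * y * u⁻¹ ≠ y ∧ v * y * v⁻¹ ≠ y ∧ v * y * v⁻¹ ≠ u * y * u⁻¹
  central : isC y → S ≤ normalizer (wSub S y : Set G)
  card_t : ¬ isC y → Nat.card (tSub S y) = 64
  nonab : ¬ isC y → ∃ a ∈ tSub S y, ∃ b ∈ tSub S y, a * b ≠ b * a
  card_w : ¬ isC y → Nat.card (wSub S y) = 16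
  big : ¬ isC y → 256 ≤ Nat.card (nSub S (wSub S y))
  dich : ¬ isC y → ∀ x ∈ tSub S y, x ∈ A ∨ x * y ∈ A ∨ isC x ∨ isC (x * y)
  elem : ¬ isC y → ∃ E : Subgroup G, (∀ x, x ∈ E ↔ x ∈ tSub S y ∧ (x ∈ A ∨ x * y ∈ A)) ∧
    Nat.card E = 32 ∧ (∀ x ∈ S, (∀ e ∈ E, x * e = e * x) → x ∈ E) ∧
    (∀ u ∈ nSub S E, u * u ∈ E) ∧ 256 ≤ Nat.card (nSub S E)

/-- The properties of the pair. -/
structure Shape (S A : Subgroup G) (isC : G → Prop) : Prop where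
  le : A ≤ S
  ea : ∀ a ∈ A, a * a = 1
  comm : ∀ a ∈ A, ∀ b ∈ A, a * b = b * a
  card_A : Nat.card A = 64
  card_S : Nat.card S = 512
  normal : S ≤ normalizer (A : Set G)
  isC_mem : ∀ x, isC x → x ∈ S ∧ x ∉ A
  isC_mul : ∀ x y, isC x → isC y → x * y ∈ A
  small : ∀ x ∈ S, x ∉ A → Nat.card ↥(A ⊓ centralizer ({x} : Set G)) ≤ 16
  notNormal : ∀ x ∈ S, x ∉ A → ¬ isC x → 16 ≤ Nat.card ↥(A ⊓ centralizer ({x} : Set G)) →
    ∃ g ∈ S, ∃ a ∈ A, a * x = x * a ∧ ¬ g * a * g⁻¹ * x = x * (g * a * g⁻¹)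
  classC : ∀ x ∈ S, x ∉ A → x * x = 1 → ¬ isC x → ∀ a ∈ S, ∀ b ∈ S,
    (∀ g ∈ S, a * (g * x * g⁻¹) = g * x * g⁻¹ * a) →
    (∀ g ∈ S, b * (g * x * g⁻¹) = g * x * g⁻¹ * b) → a * b = b * a
  commC : ∀ x, isC x → ∀ a ∈ A, ∀ g ∈ S, g * a * g⁻¹ * a * x = x * (g * a * g⁻¹ * a)
  four : ∃ s ∈ S, s * s ∉ A
  split : ∀ y ∈ S, y ∉ A → y * y ∈ A → ∃ a ∈ A, y * a * (y * a) = 1
  wit : ∀ y ∈ S, y ∉ A → y * y = 1 →
    ∃ g ∈ S, Wit S A isC (g * y * g⁻¹) ∧ (isC y → isC (g * y * g⁻¹))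

end Cfsg.Agent.M24SylQ
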