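import Cfsg.Agent.Lib.M24SylQ.Checks
import Cfsg.Agent.Lib.M24SylQ.Place
import Cfsg.Agent.Lib.M24SylQ.Shape
import Mathlib.Data.List.Nodup

/-!
A 2-group with these coordinates has the properties used for the strong closure.
-/

set_option autoImplicit false
set_option maxRecDepth 20000
set_option linter.unusedSectionVars false

namespace Cfsg.Agent.M24SylQ

open Subgroup Cfsg.Agent.PermCert

theorem certs_nodup : certs.all (fun c => decide c.ws.Nodup && decide c.es.Nodup) = true := by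
  decide +kernel

theorem certs_lt : certs.all (fun c => Nat.blt c.wM (2 ^ 512) && c.es.all (fun e => Nat.blt e 512)) = true := by
  decide +kernel

theorem wM_lt (c : Cert) (hc : c ∈ certs) : c.wM < 2 ^ 512 := by
  have h := List.all_eq_true.1 certs_lt c hc
  simp only [Bool.and_eq_true, Nat.blt_eq] at h
  exact h.1

theorem es_lt (c : Cert) (hc : c ∈ certs) (e : ℕ) (he : e ∈ c.es) : e < 512 := by
  have h := List.all_eq_true.1 certs_lt c hc
  simp only [Bool.and_eq_true, Nat.blt_eq, List.all_eq_true] at h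
  exact h.2 e he

theorem allBelow_intro (f : ℕ → Bool) : ∀ n, (∀ i < n, f i = true) → allBelow f n = true := by
  intro n
  induction n with
  | zero => intro _; rfl
  | succ n ih =>
    intro h
    show (allBelow f n && f n) = true
    rw [ih fun i hi => h i (by omega), h n (by omega)]
    rfl

theorem cjN_lt (g x : ℕ) : cjN g x < 512 := mN_lt _ _

theorem iN_lt (n : ℕ) : iN n < 512 := mN_lt _ _

theorem xor_not_iff {a b : Bool} : Bool.xor a (!b) = true ↔ (a = true ↔ b = true) := by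
  cases a <;> cases b <;> decide

variable {G : Type*} [Group G] [Finite G] {S A : Subgroup G} {el : ℕ → G}

/-- The central coset in `G`. -/
def centC (el : ℕ → G) (x : G) : Prop := ∃ n < 512, inC n = true ∧ el n = x

variable (P : Place S A el)
include P

theorem Place.one : el 0 = 1 := by
  have h := P.mul 0 (by norm_num) 0 (by norm_num)
  rw [show mN 0 0 = 0 by decide +kernel] at h
  exact mul_left_cancel (a := el 0) (by rw [mul_one, ← h])

theorem Place.el_inv {n : ℕ} (hn : n < 512) : el (iN n) = (el n)⁻¹ := by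
  have h := allBelow_spec _ _ okI_true n hn
  simp only [Bool.and_eq_true, Nat.beq_eq] at h
  refine eq_inv_of_mul_eq_one_left ?_
  rw [← P.mul (iN n) (mN_lt _ _) n hn, h.1, P.one]

theorem Place.conj {g n : ℕ} (hg : g < 512) (hn : n < 512) :
    el (cjN g n) = el g * el n * (el g)⁻¹ := by
  rw [cjN, P.mul _ (mN_lt _ _) _ (iN_lt _), P.mul g hg n hn, P.el_inv hg]

theorem Place.cm {a b : ℕ} (ha : a < 512) (hb : b < 512) :
    cmB a b = true ↔ el a * el b = el b * el a := by
  rw [cmB, Nat.beq_eq, ← P.mul a ha b hb, ← P.mul b hb a ha]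
  exact ⟨fun h => by rw [h], P.inj _ (mN_lt _ _) _ (mN_lt _ _)⟩

theorem Place.cm_false {a b : ℕ} (ha : a < 512) (hb : b < 512) :
    cmB a b = false ↔ el a * el b ≠ el b * el a := by
  rw [← Bool.not_eq_true, P.cm ha hb]

theorem Place.inA_iff {n : ℕ} (hn : n < 512) : inA n = true ↔ el n ∈ A := by
  rw [inA, Nat.blt_eq, P.memA n hn]

theorem Place.eq_one {n : ℕ} (hn : n < 512) : el n = 1 ↔ n = 0 :=
  ⟨fun h => P.inj n hn 0 (by norm_num) (h.trans P.one.symm), fun h => h ▸ P.one⟩

theorem Place.inC_iff {n : ℕ} (hn : n < 512) : inC n = true ↔ centC el (el n) :=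
  ⟨fun h => ⟨n, hn, h, rfl⟩, fun ⟨m, hm, h, he⟩ => P.inj m hm n hn he ▸ h⟩

/-- The order of a subgroup given by a list of coordinates. -/
theorem Place.card_eq {H : Subgroup G} (L : List ℕ) (hL : L.Nodup) (hlt : ∀ n ∈ L, n < 512)
    (hmem : ∀ n ∈ L, el n ∈ H) (hsurj : ∀ h ∈ H, ∃ n ∈ L, el n = h) : Nat.card H = L.length := by
  classical
  let f : L.toFinset → H := fun n => ⟨el n, hmem n (List.mem_toFinset.1 n.2)⟩
  have hf : Function.Bijective f := by
    refine ⟨fun a b h => Subtype.ext (P.inj _ (hlt _ (List.mem_toFinset.1 a.2)) _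
      (hlt _ (List.mem_toFinset.1 b.2)) (congrArg Subtype.val h)), fun h => ?_⟩
    obtain ⟨n, hn, he⟩ := hsurj h h.2
    exact ⟨⟨n, List.mem_toFinset.2 hn⟩, Subtype.ext he⟩
  rw [← Nat.card_eq_of_bijective f hf, Nat.card_eq_fintype_card, Fintype.card_coe,
    List.toFinset_card_of_nodup hL]

theorem Place.card_filter {H : Subgroup G} (hH : H ≤ S) (f : ℕ → Bool)
    (h : ∀ n < 512, f n = true ↔ el n ∈ H) : Nat.card H = (nums.filter f).length := by
  refine P.card_eq _ (List.Nodup.filter _ List.nodup_range) (fun n hn => ?_) (fun n hn => ?_) fun x hx => ?_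
  · exact List.mem_range.1 (List.mem_filter.1 hn).1
  · obtain ⟨hn1, hn2⟩ := List.mem_filter.1 hn
    exact (h n (List.mem_range.1 hn1)).1 hn2
  · obtain ⟨n, hn, rfl⟩ := P.surj x (hH hx)
    exact ⟨n, List.mem_filter.2 ⟨List.mem_range.2 hn, (h n hn).2 hx⟩, rfl⟩

theorem Place.cert_wit {c : Cert} (hc : c ∈ certs) : c.y < 512 ∧ Wit S A (centC el) (el c.y) := by
  have hok := List.all_eq_true.1 okCert_true c hc
  have hnd := List.all_eq_true.1 certs_nodup c hc
  simp only [Bool.and_eq_true, decide_eq_true_eq] at hnd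
  simp only [okCert, Bool.and_eq_true] at hok
  obtain ⟨⟨hs, hn⟩, hrest⟩ := hok
  simp only [okSets, Bool.and_eq_true, Nat.blt_eq, List.all_eq_true, Nat.beq_eq] at hs
  obtain ⟨⟨⟨⟨⟨⟨⟨hinv, hy⟩, hT⟩, hW⟩, hWl⟩, hws⟩, hwg⟩, hhalf⟩ := hs
  simp only [isInv, Bool.and_eq_true, Bool.not_eq_true', Nat.beq_eq] at hinv
  have hyA : el c.y ∉ A := fun h => by
    rw [(P.inA_iff hy).2 h] at hinv
    exact Bool.noConfusion hinv.1
  have hTm : ∀ x < 512, c.tM.testBit x = true ↔ el x ∈ tSub S (el c.y) := fun x hx => by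
    rw [xor_not_iff.1 (allBelow_spec _ _ hT x hx), P.cm hx hy, tSub, mem_inf,
      mem_centralizer_singleton_iff]
    exact ⟨fun h => ⟨P.mem x hx, h⟩, fun h => h.2⟩
  have hWm : ∀ x < 512, c.wM.testBit x = true ↔ el x ∈ wSub S (el c.y) := fun x hx => by
    rw [xor_not_iff.1 (allBelow_spec _ _ hW x hx), Bool.and_eq_true, hTm x hx, wSub, mem_inf,
      mem_centralizer_iff]
    refine and_congr_right fun _ => ⟨fun h t ht => ?_, fun h => ?_⟩
    · obtain ⟨k, hk, rfl⟩ := P.surj t (mem_inf.1 ht).1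
      have h1 := allBelow_spec _ _ h k hk
      rw [(hTm k hk).2 ht, Bool.not_true, Bool.false_or, P.cm hx hk] at h1
      exact h1.symm
    · have key : ∀ k < 512, (!c.tM.testBit k || cmB x k) = true := fun k hk => by
        rcases hb : c.tM.testBit k with _ | _
        · rfl
        · rw [Bool.not_true, Bool.false_or, P.cm hx hk]
          exact (h _ ((hTm k hk).1 hb)).symm
      exact allBelow_intro _ _ key
  have hwlt : ∀ w ∈ c.ws, w < 512 := fun w hw => (hws w hw).2
  have hwmask : ∀ x < 512, c.wM.testBit x = true ↔ x ∈ c.ws := fun x hx => by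
    rw [xor_not_iff.1 (allBelow_spec _ _ hWl x hx), List.any_eq_true]
    exact ⟨fun ⟨w, hw, he⟩ => Nat.beq_eq.mp he ▸ hw, fun h => ⟨x, h, Nat.beq_refl x⟩⟩
  have hWsurj : ∀ z ∈ wSub S (el c.y), ∃ w ∈ c.ws, el w = z := fun z hz => by
    obtain ⟨k, hk, rfl⟩ := P.surj z (mem_inf.1 (mem_inf.1 hz).1).1
    exact ⟨k, (hwmask k hk).1 ((hWm k hk).2 hz), rfl⟩
  have hWmem : ∀ w ∈ c.ws, el w ∈ wSub S (el c.y) := fun w hw =>
    (hWm w (hwlt w hw)).1 ((hwmask w (hwlt w hw)).2 hw)
  have hgnorm : ∀ u < 512, (∀ w ∈ c.ws, c.wM.testBit (cjN u w) = true) →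
      el u ∈ nSub S (wSub S (el c.y)) := fun u hu h => by
    refine mem_inf.2 ⟨P.mem u hu, ?_⟩
    refine mem_normalizer_iff_map_conj_eq.2 (eq_of_le_of_card_ge ?_
      (card_map_of_injective (MulAut.conj (el u)).injective).ge)
    rintro _ ⟨z, hz, rfl⟩
    obtain ⟨w, hw, rfl⟩ := hWsurj z hz
    show el u * el w * (el u)⁻¹ ∈ wSub S (el c.y)
    rw [← P.conj hu (hwlt w hw)]
    exact (hWm _ (mN_lt _ _)).1 (h w hw)
  have hgconv : ∀ u < 512, el u ∈ nSub S (wSub S (el c.y)) → ∀ w, w < 512 →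
      c.wM.testBit w = true → c.wM.testBit (cjN u w) = true := fun u hu hn w hw hb => by
    rw [hWm _ (cjN_lt _ _), P.conj hu hw]
    exact (mem_normalizer_iff.1 (mem_inf.1 hn).2 _).1 ((hWm w hw).1 hb)
  simp only [okNorm, Bool.and_eq_true, Nat.blt_eq, List.all_eq_true, Bool.not_eq_true'] at hn
  obtain ⟨⟨⟨⟨⟨⟨hN, hu⟩, hv⟩, huv⟩, hu'⟩, hv'⟩, hvu⟩ := hn
  have hwglt : ∀ w ∈ c.wg, w < 512 := fun w hw => by
    by_contra hlt
    have hb := hwg w hw
    have h512 : c.wM < 2 ^ 512 := wM_lt c hc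
    rw [Nat.testBit_lt_two_pow (h512.trans_le (Nat.pow_le_pow_right two_pos (not_lt.1 hlt)))] at hb
    exact Bool.noConfusion hb
  have hnorm : ∀ u < 512, el u ∈ nSub S (wSub S (el c.y)) →
      c.tM.testBit (mN u u) = true ∧ ∀ w ∈ c.ws, inA w = true → cjN u w = w := fun u hu hn => by
    have h := allBelow_spec _ _ hN u hu
    have hall : c.wg.all (fun w => c.wM.testBit (cjN u w)) = true :=
      List.all_eq_true.2 fun w hw => hgconv u hu hn w (hwglt w hw) (hwg w hw)
    simp only [hall, Bool.not_true, Bool.false_or, Bool.and_eq_true, List.all_eq_true,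
      Bool.or_eq_true, Bool.not_eq_true', Nat.beq_eq] at h
    refine ⟨h.1, fun w hw hA => (h.2 w hw).resolve_left (by rw [hA]; decide)⟩
  have hne : ∀ u < 512, Nat.beq (cjN u c.y) c.y = false → el u * el c.y * (el u)⁻¹ ≠ el c.y := fun u hu h he => by
    rw [← P.conj hu hy] at he
    rw [Nat.beq_eq.mpr (P.inj _ (cjN_lt _ _) _ hy he)] at h
    exact Bool.noConfusion h
  have hcase : ∀ {b : Bool}, inC c.y = b → (if b then okCentral c else okOther c) = true := fun {b} hb => hb ▸ hrest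
  refine ⟨hy, ?_⟩
  refine
    { mem := P.mem _ hy
      out := hyA
      sq := fun z hz => ?_
      half := ?_
      norm_sq := fun z hz => ?_
      norm_fix := fun z hz b hb => ?_
      movers := ⟨el c.u, hgnorm _ hu fun w hw => (huv w hw).1, el c.v, hgnorm _ hv fun w hw => (huv w hw).2,
        hne _ hu hu', hne _ hv hv', fun he => ?_⟩
      central := fun hC => ?_
      card_t := fun hC => ?_
      nonab := fun hC => ?_
      card_w := fun hC => ?_
      big := fun hC => ?_
      dich := fun hC => ?_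
      elem := fun hC => ?_ }
  · obtain ⟨w, hw, rfl⟩ := hWsurj z hz
    rw [← P.mul w (hwlt w hw) w (hwlt w hw), (hws w hw).1, P.one]
  · rw [P.card_eq c.ws hnd.1 hwlt hWmem hWsurj,
      P.card_eq (c.ws.filter inA) (hnd.1.filter _) (fun n hn => hwlt n (List.mem_filter.1 hn).1)
        (fun n hn => mem_inf.2 ⟨(P.inA_iff (hwlt n (List.mem_filter.1 hn).1)).1 (List.mem_filter.1 hn).2,
          hWmem n (List.mem_filter.1 hn).1⟩) (fun z hz => ?_), mul_comm]
    · exact hhalf
    · obtain ⟨w, hw, rfl⟩ := hWsurj z (mem_inf.1 hz).2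
      exact ⟨w, List.mem_filter.2 ⟨hw, (P.inA_iff (hwlt w hw)).2 (mem_inf.1 hz).1⟩, rfl⟩
  · obtain ⟨u, hu', rfl⟩ := P.surj z (mem_inf.1 hz).1
    rw [← P.mul u hu' u hu', ← hTm _ (mN_lt _ _)]
    exact (hnorm u hu' hz).1
  · obtain ⟨u, hu', rfl⟩ := P.surj z (mem_inf.1 hz).1
    obtain ⟨w, hw, rfl⟩ := hWsurj b (mem_inf.1 hb).2
    rw [← P.conj hu' (hwlt w hw), (hnorm u hu' hz).2 w hw ((P.inA_iff (hwlt w hw)).2 (mem_inf.1 hb).1)]
  · rw [← P.conj hv hy, ← P.conj hu hy] at he
    rw [Nat.beq_eq.mpr (P.inj _ (cjN_lt _ _) _ (cjN_lt _ _) he)] at hvu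
    exact Bool.noConfusion hvu
  · have h := hcase ((P.inC_iff hy).2 hC)
    simp only [↓reduceIte, okCentral] at h
    intro z hz
    obtain ⟨u, hu', rfl⟩ := P.surj z hz
    exact (mem_inf.1 (hgnorm u hu' (List.all_eq_true.1 (allBelow_spec _ _ h u hu')))).2
  all_goals
    have h := hcase (b := false) (Bool.eq_false_iff.2 fun h => hC ((P.inC_iff hy).1 h))
    simp only [Bool.false_eq_true, ↓reduceIte, okOther, Bool.and_eq_true, Nat.beq_eq, Nat.ble_eq,
      Nat.blt_eq, List.all_eq_true, Bool.not_eq_true'] at h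
    obtain ⟨⟨⟨⟨⟨⟨⟨⟨⟨⟨⟨⟨⟨⟨⟨hT64, haT⟩, hbT⟩, ha⟩, hb⟩, hab⟩, hW16⟩, hdich⟩, hE⟩, hEl⟩, hE32⟩, heg⟩,
      hEc⟩, hEsq⟩, hWbig⟩, hEbig⟩ := h
  · rw [P.card_filter (H := tSub S (el c.y)) inf_le_left (fun x => c.tM.testBit x) hTm, hT64]
  · exact ⟨el c.a, (hTm _ ha).1 haT, el c.b, (hTm _ hb).1 hbT, (P.cm_false ha hb).1 hab⟩
  · rw [P.card_eq c.ws hnd.1 hwlt hWmem hWsurj, hW16]
  · refine le_of_le_of_eq hWbig (P.card_filter (inf_le_left : nSub S _ ≤ S) _ fun u hu' => ?_).symm
    rw [List.all_eq_true]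
    exact ⟨hgnorm u hu', fun hn w hw =>
      hgconv u hu' hn w (hwlt w hw) ((hwmask w (hwlt w hw)).2 hw)⟩
  · intro x hx
    obtain ⟨n, hn', rfl⟩ := P.surj x (mem_inf.1 hx).1
    have h1 := allBelow_spec _ _ hdich n hn'
    simp only [(hTm n hn').2 hx, Bool.not_true, Bool.false_or, Bool.or_eq_true] at h1
    rw [← P.mul n hn' _ hy]
    rcases h1 with ((h1 | h1) | h1) | h1
    · exact Or.inl ((P.inA_iff hn').1 h1)
    · exact Or.inr (Or.inl ((P.inA_iff (mN_lt _ _)).1 h1))
    · exact Or.inr (Or.inr (Or.inl ((P.inC_iff hn').1 h1)))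
    · exact Or.inr (Or.inr (Or.inr ((P.inC_iff (mN_lt _ _)).1 h1)))
  · set T := tSub S (el c.y)
    have hEm : ∀ x < 512, c.eM.testBit x = true ↔ el x ∈ T ∧ (el x ∈ A ∨ el x * el c.y ∈ A) :=
      fun x hx => by
        rw [xor_not_iff.1 (allBelow_spec _ _ hE x hx), Bool.and_eq_true, Bool.or_eq_true, hTm x hx,
          P.inA_iff hx, P.inA_iff (mN_lt _ _), P.mul x hx _ hy]
    have hcomm : ∀ x ∈ T, x * el c.y = el c.y * x := fun x hx =>
      mem_centralizer_singleton_iff.1 (mem_inf.1 hx).2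
    have hyy : el c.y * el c.y = 1 := by rw [← P.mul _ hy _ hy, hinv.2, P.one]
    let E : Subgroup G :=
      { carrier := {x | x ∈ T ∧ (x ∈ A ∨ x * el c.y ∈ A)}
        one_mem' := ⟨one_mem _, Or.inl (one_mem _)⟩
        mul_mem' := fun {p q} hp hq => ⟨mul_mem hp.1 hq.1, by
          rcases hp.2 with hp' | hp' <;> rcases hq.2 with hq' | hq'
          · exact Or.inl (mul_mem hp' hq')
          · exact Or.inr (by rw [mul_assoc]; exact mul_mem hp' hq')
          · refine Or.inr ?_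
            rw [mul_assoc, hcomm q hq.1, ← mul_assoc]
            exact mul_mem hp' hq'
          · refine Or.inl ?_
            have h2 := mul_mem hp' hq'
            rwa [show p * el c.y * (q * el c.y) = p * (el c.y * q) * el c.y by simp [mul_assoc],
              ← hcomm q hq.1, show p * (q * el c.y) * el c.y = p * q * (el c.y * el c.y) by
                simp [mul_assoc], hyy, mul_one] at h2⟩
        inv_mem' := fun {p} hp => ⟨inv_mem hp.1, hp.2.imp inv_mem fun hp' => by
          have h2 := inv_mem hp'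
          rwa [mul_inv_rev, inv_eq_of_mul_eq_one_right hyy, ← hcomm p⁻¹ (inv_mem hp.1)] at h2⟩ }
    have hEmem : ∀ x, x ∈ E ↔ x ∈ T ∧ (x ∈ A ∨ x * el c.y ∈ A) := fun x => Iff.rfl
    have helt : ∀ e ∈ c.es, e < 512 := fun e he => es_lt c hc e he
    have hemask : ∀ x < 512, c.eM.testBit x = true ↔ x ∈ c.es := fun x hx => by
      rw [xor_not_iff.1 (allBelow_spec _ _ hEl x hx), List.any_eq_true]
      exact ⟨fun ⟨w, hw, he⟩ => Nat.beq_eq.mp he ▸ hw, fun h => ⟨x, h, Nat.beq_refl x⟩⟩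
    have hEsurj : ∀ z ∈ E, ∃ e ∈ c.es, el e = z := fun z hz => by
      obtain ⟨k, hk, rfl⟩ := P.surj z (mem_inf.1 hz.1).1
      exact ⟨k, (hemask k hk).1 ((hEm k hk).2 hz), rfl⟩
    have hEin : ∀ e ∈ c.es, el e ∈ E := fun e he => (hEm e (helt e he)).1 ((hemask e (helt e he)).2 he)
    have hEcount : Nat.card E = 32 := by rw [P.card_eq c.es hnd.2 helt hEin hEsurj, hE32]
    refine ⟨E, hEmem, hEcount, fun x hx hxE => ?_, fun z hz => ?_, ?_⟩
    · obtain ⟨k, hk, rfl⟩ := P.surj x hx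
      have h1 := allBelow_spec _ _ hEc k hk
      rw [show c.es.all (fun e => cmB k e) = true from List.all_eq_true.2 fun e he =>
        (P.cm hk (helt e he)).2 (hxE _ (hEin e he)), Bool.not_true, Bool.or_false] at h1
      exact (hEm k hk).1 h1
    · obtain ⟨u, hu', rfl⟩ := P.surj z (mem_inf.1 hz).1
      have h1 := allBelow_spec _ _ hEsq u hu'
      rw [show c.eg.all (fun e => c.eM.testBit (cjN u e)) = true from List.all_eq_true.2 fun e he => by
        obtain ⟨hb, he'⟩ := heg e he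
        rw [hEm _ (cjN_lt _ _), P.conj hu' he']
        exact (mem_normalizer_iff.1 (mem_inf.1 hz).2 _).1 ((hEm e he').1 hb),
        Bool.not_true, Bool.false_or] at h1
      rw [← P.mul u hu' u hu']
      exact (hEm _ (mN_lt _ _)).1 h1
    · refine le_of_le_of_eq hEbig (P.card_filter (inf_le_left : nSub S E ≤ S) _ fun u hu' => ?_).symm
      rw [List.all_eq_true]
      refine ⟨fun h => mem_inf.2 ⟨P.mem u hu', mem_normalizer_iff_map_conj_eq.2 (eq_of_le_of_card_ge ?_
        (card_map_of_injective (MulAut.conj (el u)).injective).ge)⟩, fun hn e he => ?_⟩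
      · rintro _ ⟨z, hz, rfl⟩
        obtain ⟨e, he, rfl⟩ := hEsurj z hz
        show el u * el e * (el u)⁻¹ ∈ E
        rw [← P.conj hu' (helt e he)]
        exact (hEm _ (mN_lt _ _)).1 (h e he)
      · rw [hEm _ (cjN_lt _ _), P.conj hu' (helt e he)]
        exact (mem_normalizer_iff.1 (mem_inf.1 hn).2 _).1 (hEin e he)

/-- The properties used for the strong closure. -/
theorem Place.shape : Shape S A (centC el) := by
  have hA : ∀ a ∈ A, ∃ n < 64, el n = a := fun a ha => by
    obtain ⟨n, hn, rfl⟩ := P.surj a (P.le ha)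
    exact ⟨n, (P.memA n hn).1 ha, rfl⟩
  have lift : ∀ {n : ℕ}, n < 64 → n < 512 := fun h => h.trans (by norm_num)
  have haN : ∀ a < 64, a ∈ aNums := fun a ha => List.mem_range.2 ha
  have hfix : ∀ x < 512, Nat.card ↥(A ⊓ centralizer ({el x} : Set G)) = cfixN x := fun x hx => by
    rw [cfixN]
    refine P.card_eq _ (List.Nodup.filter _ List.nodup_range) (fun n hn => lift (List.mem_range.1 (List.mem_filter.1 hn).1))
      (fun n hn => ?_) fun h hh => ?_
    · obtain ⟨hn1, hn2⟩ := List.mem_filter.1 hn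
      have hn1' := List.mem_range.1 hn1
      exact mem_inf.2 ⟨(P.memA n (lift hn1')).2 hn1',
        mem_centralizer_singleton_iff.2 ((P.cm hx (lift hn1')).1 hn2).symm⟩
    · obtain ⟨n, hn, rfl⟩ := hA h (mem_inf.1 hh).1
      exact ⟨n, List.mem_filter.2 ⟨haN n hn, (P.cm hx (lift hn)).2
        (mem_centralizer_singleton_iff.1 (mem_inf.1 hh).2).symm⟩, rfl⟩
  have haN2 : ∀ a < 64, ∀ b < 64, mN a b = mN b a ∧ mN a a = 0 := by
    have h : (allBelow (fun a => allBelow (fun b =>
        Nat.beq (mN a b) (mN b a) && Nat.beq (mN a a) 0) 64) 64) = true := by decide +kernel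
    intro a ha b hb
    have := allBelow_spec _ _ (allBelow_spec _ _ h a ha) b hb
    simpa only [Bool.and_eq_true, Nat.beq_eq] using this
  have hnotA : ∀ n < 512, el n ∉ A → inA n = false := fun n hn h =>
    Bool.eq_false_iff.2 fun h' => h ((P.inA_iff hn).1 h')
  have hnotC : ∀ n < 512, ¬ centC el (el n) → inC n = false := fun n hn h =>
    Bool.eq_false_iff.2 fun h' => h ((P.inC_iff hn).1 h')
  have hcoset := okCoset_true
  simp only [okCoset, Bool.and_eq_true, Bool.not_eq_true'] at hcoset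
  have hcomm := okComm_true
  simp only [okComm, Bool.and_eq_true, List.all_eq_true] at hcomm
  refine
    { le := P.le
      ea := fun a ha => ?_
      comm := fun a ha b hb => ?_
      card_A := ?_
      card_S := ?_
      normal := ?_
      isC_mem := ?_
      isC_mul := ?_
      small := fun x hx hxA => ?_
      notNormal := fun x hx hxA hxC h16 => ?_
      classC := fun x hx hxA hxx hxC a ha b hb hac hbc => ?_
      commC := ?_
      four := ⟨el 320, P.mem _ (by norm_num), fun h => ?_⟩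
      split := fun y hy hyA hyy => ?_
      wit := fun y hy hyA hyy => ?_ }
  · obtain ⟨n, hn, rfl⟩ := hA a ha
    rw [← P.mul n (lift hn) n (lift hn), (haN2 n hn n hn).2, P.one]
  · obtain ⟨n, hn, rfl⟩ := hA a ha
    obtain ⟨k, hk, rfl⟩ := hA b hb
    rw [← P.mul n (lift hn) k (lift hk), (haN2 n hn k hk).1, P.mul k (lift hk) n (lift hn)]
  · rw [P.card_eq (List.range 64) List.nodup_range (fun n hn => lift (List.mem_range.1 hn))
      (fun n hn => (P.memA n (lift (List.mem_range.1 hn))).2 (List.mem_range.1 hn))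
      (fun a ha => let ⟨n, hn, he⟩ := hA a ha; ⟨n, List.mem_range.2 hn, he⟩), List.length_range]
  · rw [P.card_eq (List.range 512) List.nodup_range (fun n hn => List.mem_range.1 hn)
      (fun n hn => P.mem n (List.mem_range.1 hn))
      (fun a ha => let ⟨n, hn, he⟩ := P.surj a ha; ⟨n, List.mem_range.2 hn, he⟩), List.length_range]
  · refine Subgroup.le_normalizer_iff.2 fun s hs a ha => ?_
    obtain ⟨g, hg, rfl⟩ := P.surj s hs
    obtain ⟨n, hn, rfl⟩ := hA a ha
    rw [← P.conj hg (lift hn)]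
    have h : (allBelow (fun g => allBelow (fun a => inA (cjN g a)) 64) 512) = true := by decide +kernel
    exact (P.inA_iff (mN_lt _ _)).1 (allBelow_spec _ _ (allBelow_spec _ _ h g hg) n hn)
  · rintro x ⟨n, hn, hC, rfl⟩
    refine ⟨P.mem n hn, fun h => ?_⟩
    have h64 := (P.memA n hn).1 h
    rw [inC, Nat.beq_eq, kOf, Nat.shiftRight_eq_div_pow, Nat.div_eq_of_lt (by norm_num; exact h64)] at hC
    exact absurd hC (by decide)
  · rintro _ _ ⟨n, hn, hnC, rfl⟩ ⟨k, hk, hkC, rfl⟩
    rw [← P.mul n hn k hk]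
    have h1 := allBelow_spec _ _ hcoset.1.1 n hn
    simp only [hnC, Bool.not_true, Bool.false_or] at h1
    have h2 := allBelow_spec _ _ h1 k hk
    simp only [hkC, Bool.not_true, Bool.false_or] at h2
    exact (P.inA_iff (mN_lt _ _)).1 h2
  · obtain ⟨n, hn, rfl⟩ := P.surj x hx
    have h1 := allBelow_spec _ _ okSmall_true n hn
    rw [hnotA n hn hxA, Bool.false_or, Nat.ble_eq] at h1
    rw [hfix n hn]
    exact h1
  · obtain ⟨n, hn, rfl⟩ := P.surj x hx
    rw [hfix n hn] at h16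
    have h1 := allBelow_spec _ _ okNotNormal_true n hn
    simp only [hnotA n hn hxA, hnotC n hn hxC, Bool.false_or, Bool.or_eq_true, Nat.blt_eq,
      List.any_eq_true, Bool.and_eq_true, Bool.not_eq_true'] at h1
    rcases h1 with h1 | ⟨a, ha, hca, g, hg, hcg⟩
    · omega
    have ha' := List.mem_range.1 ha
    have hg' : g < 512 := by
      simp only [List.mem_cons, List.not_mem_nil, or_false] at hg
      omega
    refine ⟨el g, P.mem g hg', el a, (P.memA a (lift ha')).2 ha', ((P.cm hn (lift ha')).1 hca).symm, ?_⟩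
    rw [← P.conj hg' (lift ha')]
    exact fun h => (P.cm_false hn (cjN_lt _ _)).1 hcg h.symm
  · obtain ⟨n, hn, rfl⟩ := P.surj x hx
    obtain ⟨p, hp, rfl⟩ := P.surj a ha
    obtain ⟨q, hq, rfl⟩ := P.surj b hb
    have hinv : isInv n = true := by
      rw [← P.mul n hn n hn, P.eq_one (mN_lt _ _)] at hxx
      rw [isInv, hnotA n hn hxA, hxx]
      rfl
    have h1 := allBelow_spec _ _ okClass_true n hn
    simp only [hinv, hnotC n hn hxC, Bool.not_true, Bool.false_or, List.all_eq_true] at h1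
    have hmem : ∀ r < 512, (∀ g ∈ S, el r * (g * el n * g⁻¹) = g * el n * g⁻¹ * el r) →
        r ∈ nums.filter fun a => [0, 1, 2, 32, 64, 256].all fun g => cmB a (cjN g n) := fun r hr hc => by
      refine List.mem_filter.2 ⟨List.mem_range.2 hr, List.all_eq_true.2 fun g hg => ?_⟩
      have hg' : g < 512 := by
        simp only [List.mem_cons, List.not_mem_nil, or_false] at hg
        omega
      rw [P.cm hr (cjN_lt _ _), P.conj hg' hn]
      exact hc _ (P.mem g hg')
    exact (P.cm hp hq).1 (h1 p (hmem p hp hac) q (hmem q hq hbc))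
  · rintro _ ⟨x, hx, hxC, rfl⟩ a ha g hg
    obtain ⟨a, ha', rfl⟩ := hA a ha
    obtain ⟨g, hg', rfl⟩ := P.surj g hg
    rw [← P.conj hg' (lift ha'), ← P.mul _ (cjN_lt _ _) a (lift ha'), eq_comm]
    refine ((P.cm hx (mN_lt _ _)).1 ?_)
    have h64 : mN (cjN g a) a < 64 := by
      have h : (allBelow (fun g => allBelow (fun a => inA (mN (cjN g a) a)) 64) 512) = true := by
        decide +kernel
      exact Nat.blt_eq.mp (allBelow_spec _ _ (allBelow_spec _ _ h g hg') a ha')
    have h1 := allBelow_spec _ _ (hcomm.1 a (haN a ha')) g hg'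
    have h2 := allBelow_spec _ _ hcomm.2 x hx
    simp only [hxC, Bool.not_true, Bool.false_or, List.all_eq_true] at h2
    exact (xor_not_iff.1 (h2 _ (haN _ h64))).2 h1
  · rw [← P.mul _ (by norm_num) _ (by norm_num), ← P.inA_iff (mN_lt _ _)] at h
    rw [h] at hcoset
    exact Bool.noConfusion hcoset.1.2
  · obtain ⟨n, hn, rfl⟩ := P.surj y hy
    rw [← P.mul n hn n hn] at hyy
    have h1 := allBelow_spec _ _ hcoset.2 n hn
    rw [hnotA n hn hyA, Bool.false_or, (P.inA_iff (mN_lt _ _)).2 hyy, Bool.not_true, Bool.false_or,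
      List.any_eq_true] at h1
    obtain ⟨a, ha, he⟩ := h1
    have ha' := List.mem_range.1 ha
    refine ⟨el a, (P.memA a (lift ha')).2 ha', ?_⟩
    rw [← P.mul n hn a (lift ha'), ← P.mul _ (mN_lt _ _) _ (mN_lt _ _), Nat.beq_eq.mp he, P.one]
  · obtain ⟨n, hn, rfl⟩ := P.surj y hy
    rw [← P.mul n hn n hn, P.eq_one (mN_lt _ _)] at hyy
    have hinv : isInv n = true := by rw [isInv, hnotA n hn hyA, hyy]; rfl
    have h1 := allBelow_spec _ _ okReps_true n hn
    simp only [hinv, Bool.not_true, Bool.false_or, List.any_eq_true, Bool.and_eq_true, Nat.beq_eq,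
      Nat.blt_eq, Bool.or_eq_true, Bool.not_eq_true'] at h1
    obtain ⟨p, -, ⟨hp1, hp2⟩, c, hc, he, hC⟩ := h1
    obtain ⟨hy', hW⟩ := P.cert_wit hc
    refine ⟨el p.2, P.mem _ hp2, ?_⟩
    rw [← P.conj hp2 hn, he]
    refine ⟨hW, fun hnC => (P.inC_iff hy').1 (hC.resolve_left ?_)⟩
    rw [(P.inC_iff hn).2 hnC]
    decide

end Cfsg.Agent.M24SylQ
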