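import Cfsg.Agent.Lib.M24SylQ.Iso
import Cfsg.Agent.Lib.M24SylQ.Pack
import Cfsg.Agent.Lib.M24SylQ.Closed

/-!
Coordinates from an isomorphism with the quotient of a Sylow 2-subgroup of the Mathieu group of degree 24 by its
centre, and the first half of the hypotheses on the abelian subgroup of order 64.
-/

set_option autoImplicit false
set_option linter.style.haveILetI false
set_option linter.unusedSectionVars false

namespace Cfsg.Agent.M24SylQ

open Subgroup Cfsg Cfsg.Agent.Golay Cfsg.Agent.ClosedAbelian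

theorem exists_iso (P : Sylow 2 ↥Cfsg.M24) :
    Nonempty (↥(P : Subgroup ↥Cfsg.M24) ⧸ Subgroup.center ↥(P : Subgroup ↥Cfsg.M24) ≃* SylQ.Q) := by
  classical
  let S₀ : Sylow 2 M24 := Sylow.ofCard (SB.sylS.subgroupOf M24) (by
    rw [Nat.card_congr (Subgroup.subgroupOfEquivOfLe SB.sylS_le).toEquiv, SB.card_sylS, card_M24]
    rw [show (244823040 : ℕ) = 2 ^ 10 * 239085 by norm_num,
      Nat.factorization_mul (by norm_num) (by norm_num), Nat.prime_two.factorization_pow]
    simp only [Finsupp.coe_add, Pi.add_apply, Finsupp.single_eq_same]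
    rw [Nat.factorization_eq_zero_of_not_dvd (by norm_num : ¬ 2 ∣ 239085)]
    norm_num)
  let e : ↥(P : Subgroup ↥M24) ≃* ↥SB.sylS :=
    (P.equiv S₀).trans ((MulEquiv.subgroupCongr (by rw [Sylow.coe_ofCard])).trans
      (Subgroup.subgroupOfEquivOfLe SB.sylS_le))
  have hmap : (Subgroup.center ↥(P : Subgroup ↥M24)).map e.toMonoidHom = Subgroup.center ↥SB.sylS :=
    le_antisymm (Subgroup.map_le_iff_le_comap.2 fun x hx => Subgroup.mem_center_iff.2 fun y => by
      obtain ⟨y, rfl⟩ := e.surjective y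
      show e y * e x = e x * e y
      rw [← map_mul, ← map_mul, Subgroup.mem_center_iff.1 hx y])
      fun x hx => ⟨e.symm x, Subgroup.mem_center_iff.2 fun y => e.injective (by
        rw [map_mul, map_mul, e.apply_symm_apply, Subgroup.mem_center_iff.1 hx (e y)]),
        e.apply_symm_apply x⟩
  exact ⟨QuotientGroup.congr _ _ e hmap⟩

universe u

variable {G : Type u} [Group G] [Finite G] {A : Subgroup G}

/-- Coordinates of `S` in which `A` is the module. -/
theorem exists_place {S : Subgroup G} (e : ↥S ≃* SylQ.Q) (hA : A ≤ S) (hAc : IsMulCommutative ↥A)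
    (hA64 : Nat.card ↥A = 64) : ∃ el : ℕ → G, Place S A el := by
  have himg : (A.subgroupOf S).map e.toMonoidHom = SylQ.A := by
    haveI := hAc
    refine SylQ.abelian_unique _ ⟨⟨?_⟩⟩ ?_
    · rintro ⟨_, a, ha, rfl⟩ ⟨_, b, hb, rfl⟩
      refine Subtype.ext (show e a * e b = e b * e a from ?_)
      rw [← map_mul, ← map_mul]
      congr 1
      exact Subtype.ext (show (a : G) * b = b * a from congrArg (fun z : ↥A => (z : G))
        (mul_comm' (⟨(a : G), mem_subgroupOf.1 ha⟩ : ↥A) ⟨(b : G), mem_subgroupOf.1 hb⟩))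
    · rw [Subgroup.card_map_of_injective e.injective,
        Nat.card_congr (subgroupOfEquivOfLe hA).toEquiv, hA64]
  refine ⟨fun n => (e.symm (psi n) : G), ⟨hA, fun n _ => (e.symm (psi n)).2, fun x hx => ?_,
    fun n hn m hm h => psi_inj hn hm (e.symm.injective (Subtype.ext h)),
    fun n _ m _ => by rw [psi_mul, map_mul, Subgroup.coe_mul], fun n hn => ?_⟩⟩
  · obtain ⟨n, hn, he⟩ := psi_surj (e ⟨x, hx⟩)
    exact ⟨n, hn, by rw [he, e.symm_apply_apply]⟩
  · rw [← psi_mem_A hn, ← himg]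
    constructor
    · exact fun h => ⟨e.symm (psi n), mem_subgroupOf.2 h, e.apply_symm_apply _⟩
    · rintro ⟨a, ha, he⟩
      rw [← he]
      simpa using mem_subgroupOf.1 ha

variable {S : Sylow 2 G} {el : ℕ → G}

/-- A 2-element normalizing `A` is conjugate under `N(A)` into `S`. -/
theorem Setting.exists_conj {isC : G → Prop} (D : Setting S A isC) {x : G}
    (hxN : x ∈ normalizer (A : Set G)) (hx : TwoEl x) :
    ∃ c ∈ normalizer (A : Set G), c * x * c⁻¹ ∈ (S : Subgroup G) := by
  obtain ⟨c, hc⟩ := LESylow.exists_conj_le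
    ((S.2.to_le D.le).to_sup_of_normal_left' hx.isPGroup (zpowers_le.2 hxN)) S
  refine ⟨c, LEBasic.map_conj_eq_iff_mem_normalizer.1 (D.uniq _ (le_trans (map_mono le_sup_left) hc)
    ⟨⟨?_⟩⟩ (by rw [LEBasic.card_map_conj, D.shape.card_A])), hc ⟨x, mem_sup_right (mem_zpowers x), rfl⟩⟩
  rintro ⟨_, u, hu, rfl⟩ ⟨_, v, hv, rfl⟩
  exact Subtype.ext (show MulAut.conj c u * MulAut.conj c v = MulAut.conj c v * MulAut.conj c u by
    rw [← map_mul, ← map_mul, D.shape.comm u hu v hv])

theorem Setting.centre {isC : G → Prop} (D : Setting S A isC) :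
    ∀ x ∈ centralizer (A : Set G), TwoEl x → x ∈ A := by
  intro x hxC hx
  obtain ⟨c, hc, hcS⟩ := D.exists_conj (centralizer_le_normalizer _ hxC) hx
  refine (mem_normalizer_iff.1 hc x).2 (by_contra fun hA => ?_)
  have h := Subgroup.card_le_of_le (show A ≤ A ⊓ centralizer ({c * x * c⁻¹} : Set G) from fun a ha =>
    mem_inf.2 ⟨ha, mem_centralizer_singleton_iff.2 (mem_centralizer_iff.1
      ((mem_normalizer_iff.1 (LELarge.normalizer_le_normalizer_centralizer A hc) x).1 hxC) a ha)⟩)
  have := D.shape.small _ hcS hA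
  have := D.shape.card_A
  omega

theorem Setting.split {isC : G → Prop} (D : Setting S A isC) :
    ∀ y ∈ normalizer (A : Set G), TwoEl y → y ∉ centralizer (A : Set G) → y * y ∈ A →
      ∃ a ∈ A, y * a * (y * a) = 1 := by
  intro y hyN hy hyC hyy
  obtain ⟨c, hc, hcS⟩ := D.exists_conj hyN hy
  have hnA : c * y * c⁻¹ ∉ A := fun h => hyC (mem_centralizer_iff.2 fun a ha =>
    D.shape.comm a ha y ((mem_normalizer_iff.1 hc y).2 h))
  obtain ⟨a, ha, h⟩ := D.shape.split _ hcS hnA (by
    have := (mem_normalizer_iff.1 hc _).1 hyy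
    simpa [mul_assoc] using this)
  have ha' : c⁻¹ * a * c ∈ A := (mem_normalizer_iff.1 hc _).2 (by simpa [mul_assoc] using ha)
  refine ⟨c⁻¹ * a * c, ha', ?_⟩
  calc y * (c⁻¹ * a * c) * (y * (c⁻¹ * a * c))
      = c⁻¹ * (c * y * c⁻¹ * a * (c * y * c⁻¹ * a)) * c := by group
    _ = 1 := by rw [h]; group

theorem Place.setting (P : Place (S : Subgroup G) A el)
    (huniq : ∀ B : Subgroup G, B ≤ (S : Subgroup G) → IsMulCommutative ↥B → Nat.card ↥B = 64 → B = A) :
    Setting S A (centC el) :=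
  ⟨P.shape, huniq⟩

end Cfsg.Agent.M24SylQ
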