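import Cfsg.Agent.Lib.M24SylQ.IsoCheck

/-!
The matching of the numbers below 512 with the quotient of the Sylow 2-subgroup by its centre.
-/

set_option autoImplicit false
set_option maxRecDepth 20000

namespace Cfsg.Agent.M24SylQ

open Cfsg.Agent.PermCert Cfsg.Agent.Golay

theorem vOf_lt (n : ℕ) : vOf n < 64 := Nat.lt_succ_of_le Nat.and_le_right
theorem kOf_lt (n : ℕ) : kOf n < 8 := Nat.lt_succ_of_le Nat.and_le_right
theorem actN_lt (k w : ℕ) : actN k w < 64 := Nat.lt_succ_of_le Nat.and_le_right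

theorem kmN_lt (k l : ℕ) : kmN k l < 8 := Nat.lt_succ_of_le Nat.and_le_right

theorem vOf_eq (n : ℕ) : vOf n = n % 64 := Nat.and_two_pow_sub_one_eq_mod n 6

theorem kOf_eq (n : ℕ) : kOf n = n / 64 % 8 := by
  rw [kOf, Nat.shiftRight_eq_div_pow, show (2 : ℕ) ^ 6 = 64 from rfl]
  exact Nat.and_two_pow_sub_one_eq_mod _ 3

theorem vOf_mN (n m : ℕ) : vOf (mN n m) = Nat.xor (vOf n) (actN (kOf n) (vOf m)) % 64 := by
  rw [vOf_eq (mN n m), mN]; omega

theorem kOf_mN (n m : ℕ) : kOf (mN n m) = kmN (kOf n) (kOf m) := by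
  have h : kmN (kOf n) (kOf m) < 8 := Nat.lt_succ_of_le Nat.and_le_right
  rw [kOf_eq (mN n m), mN]; omega

/-- The element with given coordinates. -/
def psi (n : ℕ) : SylQ.Q := SylQ.q (idxA.getD (vOf n) 0) * SylQ.q (idxK.getD (kOf n) 0)

theorem iso_parts :
    (∀ v < 64, idxA.getD v 0 ∈ SylQ.aList) ∧ (∀ k < 8, idxK.getD k 0 < 1024) ∧
    (∀ v < 64, ∀ w < 64, SylQ.eqz (SylQ.cm (cV v) (cV w)) (cV (Nat.xor v w % 64)) = true) ∧
    (∀ k < 8, ∀ l < 8, SylQ.eqz (SylQ.cm (cK k) (cK l)) (cK (kmN k l)) = true) ∧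
    (∀ k < 8, ∀ w < 64, SylQ.eqz (SylQ.cm (cK k) (cV w)) (SylQ.cm (cV (actN k w)) (cK k)) = true) ∧
    ∀ i < 1024, SB.look clsRows 0 i < 512 ∧
      SylQ.eqz (SylQ.cm (cV (vOf (SB.look clsRows 0 i))) (cK (kOf (SB.look clsRows 0 i)))) (SylQ.c i) = true := by
  have h := okIso_true
  simp only [okIso, Bool.and_eq_true] at h
  obtain ⟨⟨⟨⟨⟨h1, h2⟩, h3⟩, h4⟩, h5⟩, h6⟩ := h
  refine ⟨fun v hv => ?_, fun k hk => Nat.blt_eq.mp (allBelow_spec _ _ h2 k hk),
    fun v hv w hw => allBelow_spec _ _ (allBelow_spec _ _ h3 v hv) w hw,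
    fun k hk l hl => allBelow_spec _ _ (allBelow_spec _ _ h4 k hk) l hl,
    fun k hk w hw => allBelow_spec _ _ (allBelow_spec _ _ h5 k hk) w hw, fun i hi => ?_⟩
  · obtain ⟨a, ha, he⟩ := List.any_eq_true.1 (allBelow_spec _ _ h1 v hv)
    exact (Nat.beq_eq.mp he) ▸ ha
  · have := allBelow_spec _ _ h6 i hi
    simp only [Bool.and_eq_true, Nat.blt_eq] at this
    exact this

theorem q_mul_eq {i j k : ℕ} (hi : i < 1024) (hj : j < 1024) (hk : k < 1024)
    (h : SylQ.eqz (SylQ.cm (SylQ.c i) (SylQ.c j)) (SylQ.c k) = true) : SylQ.q i * SylQ.q j = SylQ.q k := by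
  rw [SylQ.q_of hi, SylQ.q_of hj, SylQ.q_of hk, ← QuotientGroup.mk_mul, SylQ.mk_eq]
  simpa only [Subgroup.coe_mul, SylQ.code_mul, SylQ.code_el] using h

theorem psi_mul (n m : ℕ) : psi (mN n m) = psi n * psi m := by
  obtain ⟨hA, hK, hVV, hKK, hKV, -⟩ := iso_parts
  have hVl : ∀ v < 64, idxA.getD v 0 < 1024 := fun v hv => SylQ.a_lt (hA v hv)
  have hswap : SylQ.q (idxK.getD (kOf n) 0) * SylQ.q (idxA.getD (vOf m) 0) =
      SylQ.q (idxA.getD (actN (kOf n) (vOf m)) 0) * SylQ.q (idxK.getD (kOf n) 0) := by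
    have hk := hK _ (kOf_lt n)
    have hw := hVl _ (vOf_lt m)
    have ha := hVl _ (actN_lt (kOf n) (vOf m))
    rw [SylQ.q_of hk, SylQ.q_of hw, SylQ.q_of ha, ← QuotientGroup.mk_mul, ← QuotientGroup.mk_mul,
      SylQ.mk_eq]
    simpa only [Subgroup.coe_mul, SylQ.code_mul, SylQ.code_el, cV, cK] using hKV _ (kOf_lt n) _ (vOf_lt m)
  rw [psi, psi, psi, vOf_mN, kOf_mN,
    ← q_mul_eq (hVl _ (vOf_lt n)) (hVl _ (actN_lt _ _)) (hVl _ (Nat.mod_lt _ (by norm_num)))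
      (hVV _ (vOf_lt n) _ (actN_lt _ _)),
    ← q_mul_eq (hK _ (kOf_lt n)) (hK _ (kOf_lt m)) (hK _ (kmN_lt (kOf n) (kOf m)))
      (hKK _ (kOf_lt n) _ (kOf_lt m))]
  simp only [mul_assoc]
  rw [← mul_assoc (SylQ.q (idxK.getD (kOf n) 0)) (SylQ.q (idxA.getD (vOf m) 0)), hswap, mul_assoc]

theorem psi_surj (x : SylQ.Q) : ∃ n < 512, psi n = x := by
  obtain ⟨hA, hK, -, -, -, hc⟩ := iso_parts
  induction x using QuotientGroup.induction_on with
  | H σ =>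
    obtain ⟨i, hi, rfl⟩ := SylQ.exists_el σ
    obtain ⟨hn, he⟩ := hc i hi
    refine ⟨_, hn, ?_⟩
    rw [psi, q_mul_eq (SylQ.a_lt (hA _ (vOf_lt _))) (hK _ (kOf_lt _)) hi he, SylQ.q_of hi]

/-- The matching, on `Fin 512`. -/
def psiF (n : Fin 512) : SylQ.Q := psi n

theorem psiF_bijective : Function.Bijective psiF := by
  have hs : Function.Surjective psiF := fun x =>
    let ⟨n, hn, he⟩ := psi_surj x; ⟨⟨n, hn⟩, he⟩
  haveI : Fintype SylQ.Q := Fintype.ofFinite _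
  exact (Fintype.bijective_iff_surjective_and_card psiF).2 ⟨hs, by
    rw [Fintype.card_fin, ← Nat.card_eq_fintype_card, SylQ.card_Q]⟩

theorem psi_inj {n m : ℕ} (hn : n < 512) (hm : m < 512) (h : psi n = psi m) : n = m :=
  congrArg Fin.val (psiF_bijective.1 (a₁ := ⟨n, hn⟩) (a₂ := ⟨m, hm⟩) h)

theorem psi_mem_A {n : ℕ} (hn : n < 512) : psi n ∈ SylQ.A ↔ n < 64 := by
  obtain ⟨hA, hK, -, -, -, -⟩ := iso_parts
  have hlow : ∀ v, v < 64 → psi v ∈ SylQ.A := fun v hv => by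
    have hk0 : kOf v = 0 := by rw [kOf_eq]; omega
    have h0 : SylQ.q (idxK.getD 0 0) = 1 := by
      have h := psi_mul 0 0
      have h00 : mN 0 0 = 0 := by decide +kernel
      have hp : psi 0 = 1 := mul_left_cancel (a := psi 0) (by rw [mul_one, ← h, h00])
      have hv0 : SylQ.q (idxA.getD 0 0) = 1 := by
        rw [show idxA.getD 0 0 = 0 by decide +kernel, SylQ.q_zero]
      rw [psi, show vOf 0 = 0 from rfl, show kOf 0 = 0 from rfl, hv0, one_mul] at hp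
      exact hp
    rw [psi, hk0, h0, mul_one]
    exact ⟨_, hA _ (vOf_lt v), rfl⟩
  refine ⟨fun h => ?_, hlow n⟩
  let f : Fin 64 → SylQ.A := fun v => ⟨psi v, hlow v v.2⟩
  have hf : Function.Injective f := fun a b hab =>
    Fin.ext (psi_inj (a.2.trans (by norm_num)) (b.2.trans (by norm_num)) (congrArg Subtype.val hab))
  haveI : Fintype SylQ.A := Fintype.ofFinite _
  obtain ⟨v, hv⟩ := ((Fintype.bijective_iff_injective_and_card f).2 ⟨hf, by
    rw [Fintype.card_fin, ← Nat.card_eq_fintype_card, SylQ.card_A]⟩).2 ⟨_, h⟩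
  rw [← psi_inj (v.2.trans (by norm_num)) hn (congrArg Subtype.val hv)]
  exact v.2

end Cfsg.Agent.M24SylQ
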