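import Cfsg.Agent.Lib.M24SylQ.KChecks
import Cfsg.Agent.Lib.M24SylQ.Iso
import Mathlib.Data.Fintype.Card

/-! The action table against the reflections of the module. -/

set_option autoImplicit false
set_option maxRecDepth 20000
set_option Elab.async false

namespace Cfsg.Agent.M24SylQ

/-- The action table against the module. -/
def okActV : Bool :=
  PermCert.allBelow (fun k => PermCert.allBelow (fun v =>
    Nat.beq (mN (64 * k) v) (mN (actN k v) (64 * k))) 64) 8 &&
  PermCert.allBelow (fun n => Nat.beq (mN (vOf n) (64 * kOf n)) n && Nat.blt (64 * kOf n) 512) 512 &&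
  PermCert.allBelow (fun k => Nat.beq k 0 || (List.range 64).any fun v => !Nat.beq (actN k v) v) 8 &&
  PermCert.allBelow (fun v => PermCert.allBelow (fun w => Nat.beq (mN v w) (Nat.xor v w)) 64) 64 &&
  PermCert.allBelow (fun v => Nat.beq (actN 1 v) (sFun ⟨v % 64, Nat.mod_lt _ (by decide)⟩).val &&
    Nat.beq (actN 4 v) (tFun ⟨v % 64, Nat.mod_lt _ (by decide)⟩).val) 64

theorem okActV_true : okActV = true := by decide +kernel

theorem d8L_act : ∀ k : Fin 8, ∃ l ∈ d8L, ∀ v : V6, (l v).val = actN k v := by
  have h : ∀ k : Fin 8, (d8L.any fun l => decide (∀ v : V6, (l v).val = actN k v)) = true := by decide +kernel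
  intro k
  obtain ⟨l, hl, e⟩ := List.any_eq_true.1 (h k)
  exact ⟨l, hl, of_decide_eq_true e⟩

theorem d8L_fix : ∀ l ∈ d8L, l * l = 1 → 16 ≤ (Finset.univ.filter fun v => l v = v).card := fun l hl =>
  of_decide_eq_true (List.all_eq_true.1 (show d8L.all (fun l =>
    decide (l * l = 1 → 16 ≤ (Finset.univ.filter fun v => l v = v).card)) = true by decide +kernel) l hl)

end Cfsg.Agent.M24SylQ
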