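import Cfsg.Agent.Lib.M24SylQ.KFacts
import Cfsg.Agent.Lib.M24SylQ.AutoCheck
import Cfsg.Agent.Lib.M24SylQ.Iso
import Cfsg.Agent.Lib.M24SylQ.Place
import Cfsg.Agent.Lib.ClosedAbelian.Data

/-!
The automiser of the abelian subgroup of order 64: the numerical conditions on it.
-/

set_option autoImplicit false
set_option maxRecDepth 20000
set_option linter.style.haveILetI false

namespace Cfsg.Agent.M24SylQ

open Subgroup

variable {G : Type*} [Group G] [Finite G] {S : Sylow 2 G} {A : Subgroup G} {el : ℕ → G}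
  (P : Place (S : Subgroup G) A el)
include P

omit [Finite G] in
theorem Place.act_facts : (∀ k < 8, ∀ v < 64, mN (64 * k) v = mN (actN k v) (64 * k)) ∧
    (∀ n < 512, mN (vOf n) (64 * kOf n) = n ∧ 64 * kOf n < 512) ∧
    (∀ k < 8, k ≠ 0 → ∃ v < 64, actN k v ≠ v) ∧ (∀ v < 64, ∀ w < 64, mN v w = Nat.xor v w) ∧
    (∀ v : V6, actN 1 v = (sFun v).val ∧ actN 4 v = (tFun v).val) := by
  have h := okActV_true
  simp only [okActV, Bool.and_eq_true] at h
  obtain ⟨⟨⟨⟨h1, h2⟩, h3⟩, h4⟩, h5⟩ := h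
  refine ⟨fun k hk v hv => Nat.beq_eq.mp (PermCert.allBelow_spec _ _ (PermCert.allBelow_spec _ _ h1 k hk) v hv),
    fun n hn => ?_, fun k hk hk0 => ?_,
    fun v hv w hw => Nat.beq_eq.mp (PermCert.allBelow_spec _ _ (PermCert.allBelow_spec _ _ h4 v hv) w hw),
    fun v => ?_⟩
  · have := PermCert.allBelow_spec _ _ h2 n hn
    simp only [Bool.and_eq_true, Nat.beq_eq, Nat.blt_eq] at this
    exact this
  · have := PermCert.allBelow_spec _ _ h3 k hk
    simp only [Bool.or_eq_true, Nat.beq_eq, List.any_eq_true, List.mem_range, Bool.not_eq_true'] at this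
    obtain ⟨v, hv, e⟩ := this.resolve_left hk0
    exact ⟨v, hv, fun e' => by rw [e', Nat.beq_refl] at e; exact Bool.noConfusion e⟩
  · have := PermCert.allBelow_spec _ _ h5 v v.isLt
    simp only [Bool.and_eq_true, Nat.beq_eq] at this
    rwa [show (⟨(v : ℕ) % 64, Nat.mod_lt _ (by decide)⟩ : V6) = v from Fin.ext (Nat.mod_eq_of_lt v.isLt)] at this

omit [Finite G] in
theorem Place.el_xor (a b : V6) : el a * el b = el (vx a b) := by
  rw [← P.mul _ (by omega) _ (by omega), P.act_facts.2.2.2.1 _ a.isLt _ b.isLt, vx_val]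

omit [Finite G] in
theorem Place.el_split {n : ℕ} (hn : n < 512) : el n = el (vOf n) * el (64 * kOf n) := by
  obtain ⟨e, hlt⟩ := P.act_facts.2.1 n hn
  rw [← P.mul _ ((vOf_lt n).trans (by norm_num)) _ hlt, e]

omit [Finite G] in
theorem Place.conj_el {k : ℕ} (hk : k < 8) (v : V6) :
    el (64 * k) * el v * (el (64 * k))⁻¹ = el (actN k v) := by
  rw [mul_inv_eq_iff_eq_mul, ← P.mul _ (by omega) _ (by omega),
    ← P.mul _ ((actN_lt k v).trans (by norm_num)) _ (by omega), P.act_facts.1 k hk v v.isLt]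

omit [Finite G] in
theorem Place.mem_A {a : G} : a ∈ A ↔ ∃ v : V6, el v = a := by
  refine ⟨fun ha => ?_, fun ⟨v, e⟩ => e ▸ (P.memA _ (by omega)).2 v.isLt⟩
  obtain ⟨n, hn, rfl⟩ := P.surj a (P.le ha)
  exact ⟨⟨n, (P.memA n hn).1 ha⟩, rfl⟩

theorem Place.sylow_le_normalizer : (S : Subgroup G) ≤ normalizer (A : Set G) := by
  intro x hx
  obtain ⟨n, hn, rfl⟩ := P.surj x hx
  rw [P.el_split hn]
  refine mul_mem (Subgroup.le_normalizer ((P.memA _ (by have := vOf_lt n; omega)).2 (vOf_lt n)))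
    (mem_normalizer_fintype fun a ha => ?_)
  obtain ⟨v, rfl⟩ := P.mem_A.1 ha
  rw [P.conj_el (kOf_lt n) v]
  exact (P.memA _ ((actN_lt _ _).trans (by norm_num))).2 (actN_lt _ _)

/-- The coordinates of `A`. -/
noncomputable def Place.coord : V6 ≃ A :=
  Equiv.ofBijective (fun v => ⟨el v, (P.memA _ (by omega)).2 v.isLt⟩) ⟨fun v w e =>
    Fin.ext (P.inj _ (by omega) _ (by omega) (congrArg Subtype.val e)), fun a => by
    obtain ⟨v, hv⟩ := P.mem_A.1 a.2
    exact ⟨v, Subtype.ext hv⟩⟩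

theorem Place.coord_apply (v : V6) : (P.coord v : G) = el v := rfl

/-- Conjugation in coordinates. -/
noncomputable def Place.phi : ↥(normalizer (A : Set G)) →* Equiv.Perm V6 :=
  MonoidHom.mk' (fun n => P.coord.trans (Equiv.trans
    { toFun := fun (a : A) => (⟨(n : G) * (a : G) * (n : G)⁻¹, (mem_normalizer_iff.1 n.2 (a : G)).1 a.2⟩ : A)
      invFun := fun (a : A) => (⟨(n : G)⁻¹ * (a : G) * (n : G), (mem_normalizer_iff''.1 n.2 (a : G)).1 a.2⟩ : A)
      left_inv := fun a => Subtype.ext (by simp [mul_assoc])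
      right_inv := fun a => Subtype.ext (by simp [mul_assoc]) } P.coord.symm))
    fun m n => Equiv.ext fun v => by
      simp only [Equiv.trans_apply, Equiv.coe_fn_mk, Equiv.Perm.mul_apply, Equiv.apply_symm_apply]
      congr 1
      exact Subtype.ext (by simp [mul_assoc])

theorem Place.el_phi (n : ↥(normalizer (A : Set G))) (v : V6) :
    el (P.phi n v) = (n : G) * el v * (n : G)⁻¹ := by
  rw [← P.coord_apply]
  simp only [phi, MonoidHom.mk'_apply, Equiv.trans_apply, Equiv.coe_fn_mk, Equiv.apply_symm_apply]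
  rw [P.coord_apply]

theorem Place.phi_eq {n : ↥(normalizer (A : Set G))} {v w : V6} (h : (n : G) * el v * (n : G)⁻¹ = el w) :
    P.phi n v = w :=
  Fin.ext (P.inj _ (by omega) _ (by omega) ((P.el_phi n v).trans h))

theorem Place.phi_eq_one {n : ↥(normalizer (A : Set G))} :
    P.phi n = 1 ↔ (n : G) ∈ centralizer (A : Set G) := by
  rw [mem_centralizer_iff]
  constructor
  · intro h a ha
    obtain ⟨v, rfl⟩ := P.mem_A.1 ha
    have := P.el_phi n v
    rw [h, Equiv.Perm.one_apply, eq_mul_inv_iff_mul_eq] at this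
    exact this
  · intro h
    exact Equiv.ext fun v => P.phi_eq (mul_inv_eq_iff_eq_mul.2 (h _ (P.mem_A.2 ⟨v, rfl⟩)).symm)

theorem Place.ker_phi : P.phi.ker = (centralizer (A : Set G)).subgroupOf (normalizer (A : Set G)) := by
  ext n
  rw [MonoidHom.mem_ker, P.phi_eq_one, mem_subgroupOf]

theorem Place.phi_sylow {n : ℕ} (hn : n < 512) (hN : el n ∈ normalizer (A : Set G)) (v : V6) :
    (P.phi ⟨el n, hN⟩ v).val = actN (kOf n) v := by
  have e : P.phi ⟨el n, hN⟩ v = ⟨actN (kOf n) v, actN_lt _ _⟩ := by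
    refine P.phi_eq ?_
    show el n * el v * (el n)⁻¹ = el (actN (kOf n) v)
    rw [P.el_split hn, show el (vOf n) * el (64 * kOf n) * el v * (el (vOf n) * el (64 * kOf n))⁻¹ =
      el (vOf n) * (el (64 * kOf n) * el v * (el (64 * kOf n))⁻¹) * (el (vOf n))⁻¹ by group,
      P.conj_el (kOf_lt n) v, mul_inv_eq_iff_eq_mul]
    have h1 := P.el_xor ⟨vOf n, vOf_lt n⟩ ⟨actN (kOf n) v, actN_lt _ _⟩
    have h2 := P.el_xor ⟨actN (kOf n) v, actN_lt _ _⟩ ⟨vOf n, vOf_lt n⟩
    rw [vx_comm] at h2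
    exact h1.trans h2.symm
  rw [e]

/-- The automiser. -/
noncomputable def Place.autK : Subgroup (Equiv.Perm V6) := P.phi.range

theorem Place.phi_D8 {n : ℕ} (hn : n < 512) (hN : el n ∈ normalizer (A : Set G)) :
    P.phi ⟨el n, hN⟩ ∈ D8 := by
  obtain ⟨l, hl, e⟩ := d8L_act ⟨kOf n, kOf_lt n⟩
  rw [show P.phi ⟨el n, hN⟩ = l from Equiv.ext fun v => Fin.ext ((P.phi_sylow hn hN v).trans (e v).symm)]
  exact mem_D8.2 hl

theorem Place.map_sylow :
    ((S : Subgroup G).subgroupOf (normalizer (A : Set G))).map P.phi = D8 := by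
  refine le_antisymm ?_ ?_
  · rintro _ ⟨⟨x, hx⟩, hxS, rfl⟩
    obtain ⟨n, hn, rfl⟩ := P.surj x hxS
    exact P.phi_D8 hn hx
  · rw [D8, closure_le]
    have gen : ∀ k < 8, ∀ f : Equiv.Perm V6, (∀ v : V6, (f v).val = actN k v) →
        f ∈ ((S : Subgroup G).subgroupOf (normalizer (A : Set G))).map P.phi := by
      intro k hk f hf
      have hn : 64 * k < 512 := by omega
      refine ⟨⟨el (64 * k), P.sylow_le_normalizer (P.mem _ hn)⟩, P.mem _ hn, Equiv.ext fun v => Fin.ext ?_⟩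
      rw [P.phi_sylow hn _ v, hf v, kOf_eq, show 64 * k / 64 % 8 = k by omega]
    rintro f (rfl | rfl)
    · exact gen 1 (by norm_num) sP fun v => ((P.act_facts.2.2.2.2 v).1).symm
    · exact gen 4 (by norm_num) tP fun v => ((P.act_facts.2.2.2.2 v).2).symm

theorem Place.kgroup : KGroup P.autK where
  lin := by
    rintro _ ⟨n, rfl⟩ a b
    refine P.phi_eq ?_
    rw [← P.el_xor a b, ← P.el_xor (P.phi n a) (P.phi n b), P.el_phi, P.el_phi]
    group
  le := by
    rw [← P.map_sylow]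
    exact Subgroup.map_le_range _ _
  odd := by
    intro h2
    haveI : Fact (Nat.Prime 2) := ⟨Nat.prime_two⟩
    set S' := (S : Subgroup G).subgroupOf (normalizer (A : Set G)) with hS'
    have he : D8.subgroupOf P.autK = S'.map P.phi.rangeRestrict := by
      ext x
      rw [mem_subgroupOf, ← P.map_sylow]
      constructor
      · rintro ⟨y, hy, e⟩
        exact ⟨y, hy, Subtype.ext e⟩
      · rintro ⟨y, hy, e⟩
        exact ⟨y, hy, congrArg Subtype.val e⟩
    have hd : D8.relIndex P.autK ∣ S'.index := by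
      show (D8.subgroupOf P.autK).index ∣ _
      rw [he]
      exact index_map_dvd S' P.phi.rangeRestrict_surjective
    refine S.not_dvd_index (h2.trans (hd.trans ?_))
    exact relIndex_dvd_index_of_le P.sylow_le_normalizer

theorem Place.phi_mem (n : ↥(normalizer (A : Set G))) : P.phi n ∈ P.autK := ⟨n, rfl⟩

theorem Place.card_fix (n : ↥(normalizer (A : Set G))) :
    Nat.card ↥(A ⊓ centralizer ({(n : G)} : Set G)) = Nat.card {v : V6 // P.phi n v = v} := by
  refine (Nat.card_congr (Equiv.ofBijective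
    (fun v : {v : V6 // P.phi n v = v} => (⟨el v.1, mem_inf.2 ⟨P.mem_A.2 ⟨v.1, rfl⟩,
      mem_centralizer_singleton_iff.2 (by
        have := P.el_phi n v.1
        rw [v.2, eq_mul_inv_iff_mul_eq] at this
        exact this)⟩⟩ : ↥(A ⊓ centralizer ({(n : G)} : Set G)))) ⟨fun v w e => Subtype.ext
      (Fin.ext (P.inj _ (by omega) _ (by omega) (congrArg Subtype.val e))), fun a => ?_⟩)).symm
  obtain ⟨ha, hc⟩ := mem_inf.1 a.2
  obtain ⟨v, hv⟩ := P.mem_A.1 ha
  refine ⟨⟨v, P.phi_eq ?_⟩, Subtype.ext hv⟩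
  rw [hv, ← mem_centralizer_singleton_iff.1 hc, mul_inv_cancel_right]

theorem Place.card_A : Nat.card A = 64 := by
  rw [Nat.card_congr P.coord.symm, Nat.card_fin]

theorem Place.odd_phi {n : ↥(normalizer (A : Set G))} (ho : Odd (orderOf (n : G))) : Odd (orderOf (P.phi n)) :=
  ho.of_dvd_nat ((orderOf_map_dvd P.phi n).trans (dvd_of_eq (Subgroup.orderOf_coe n).symm))

/-- An involution of the automiser fixes at least sixteen vectors. -/
theorem Place.fix_invol {k : Equiv.Perm V6} (hk : k ∈ P.autK) (hk2 : k * k = 1) (hk1 : k ≠ 1) :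
    16 ≤ Nat.card {v : V6 // k v = v} := by
  haveI : Fact (Nat.Prime 2) := ⟨Nat.prime_two⟩
  have hQ : IsPGroup 2 (zpowers k) := IsPGroup.of_card (n := 1) (by
    rw [Nat.card_zpowers, orderOf_eq_prime (by rw [pow_two, hk2]) hk1, pow_one])
  obtain ⟨g, hg, hgD⟩ := P.kgroup.exists_conj hQ (zpowers_le.2 hk)
  have h16 := d8L_fix _ (mem_D8.1 (hgD k (mem_zpowers k))) (by
    rw [show g * k * g⁻¹ * (g * k * g⁻¹) = g * (k * k) * g⁻¹ by group, hk2, mul_one, mul_inv_cancel])
  refine h16.trans ?_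
  rw [← Fintype.card_subtype, ← Nat.card_eq_fintype_card]
  exact card_fix_conj (g := g⁻¹) (i := 1) (by group)

/-- **The numerical conditions on the automiser.** -/
theorem Place.automiser :
    (∀ y ∈ normalizer (A : Set G), ∀ n ∈ normalizer (A : Set G), y ∉ centralizer (A : Set G) →
      y * y ∈ centralizer (A : Set G) → n * y = y * n → Odd (orderOf n) → n ∈ centralizer (A : Set G)) ∧
    (∀ r ∈ normalizer (A : Set G), Odd (orderOf r) → r ∉ centralizer (A : Set G) →
      Nat.card ↥(A ⊓ centralizer ({r} : Set G)) * 8 ≤ Nat.card A) ∧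
    (∀ r ∈ normalizer (A : Set G), Odd (orderOf r) → r ∉ centralizer (A : Set G) →
      ∀ y ∈ normalizer (A : Set G), y ∉ centralizer (A : Set G) → y * y ∈ centralizer (A : Set G) →
      Nat.card ↥(A ⊓ centralizer ({r} : Set G)) * 4 ≤ Nat.card ↥(A ⊓ centralizer ({y} : Set G))) ∧
    (∀ F ≤ A, (centralizer (A : Set G)).relIndex (ClosedAbelian.NX A F) ≠ 1 →
      Odd ((centralizer (A : Set G)).relIndex (ClosedAbelian.NX A F)) →
      ¬ (Nat.card A / Nat.card F - 1) ∣ (centralizer (A : Set G)).relIndex (ClosedAbelian.NX A F)) := by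
  have hK := P.kgroup
  have invol : ∀ y (hy : y ∈ normalizer (A : Set G)), y ∉ centralizer (A : Set G) →
      y * y ∈ centralizer (A : Set G) → P.phi ⟨y, hy⟩ * P.phi ⟨y, hy⟩ = 1 ∧ P.phi ⟨y, hy⟩ ≠ 1 :=
    fun y hy hyc hy2 => ⟨by rw [← map_mul]; exact P.phi_eq_one.2 hy2, fun e => hyc (P.phi_eq_one.1 e)⟩
  have fix4 : ∀ r (hr : r ∈ normalizer (A : Set G)), Odd (orderOf r) → r ∉ centralizer (A : Set G) →
      Nat.card ↥(A ⊓ centralizer ({r} : Set G)) ≤ 4 := fun r hr ho hrc => by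
    rw [show ({r} : Set G) = {((⟨r, hr⟩ : ↥(normalizer (A : Set G))) : G)} from rfl, P.card_fix]
    exact hK.fix_le_four _ (P.phi_mem _) (P.odd_phi ho) fun e => hrc (P.phi_eq_one.1 e)
  refine ⟨fun y hy n hn hyc hy2 hny ho => ?_, fun r hr ho hrc => ?_,
    fun r hr ho hrc y hy hyc hy2 => ?_, fun F hF hne hodd hdvd => ?_⟩
  · obtain ⟨h2, h1⟩ := invol y hy hyc hy2
    have hmem : P.phi ⟨n, hn⟩ ∈ P.autK ⊓ centralizer {P.phi ⟨y, hy⟩} :=
      mem_inf.2 ⟨P.phi_mem _, mem_centralizer_singleton_iff.2 (by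
        rw [← map_mul, ← map_mul]; exact congrArg P.phi (Subtype.ext hny))⟩
    obtain ⟨k, hk⟩ := hK.cent_two _ (P.phi_mem _) h2 h1 ⟨_, hmem⟩
    exact P.phi_eq_one.1 (eq_one_of_odd (P.odd_phi (n := ⟨n, hn⟩) ho) (congrArg Subtype.val hk))
  · have := fix4 r hr ho hrc
    rw [P.card_A]; omega
  · obtain ⟨h2, h1⟩ := invol y hy hyc hy2
    have := fix4 r hr ho hrc
    have h16 := P.fix_invol (P.phi_mem ⟨y, hy⟩) h2 h1
    rw [← P.card_fix] at h16
    have h16' : 16 ≤ Nat.card ↥(A ⊓ centralizer ({y} : Set G)) := h16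
    omega
  · set N := normalizer (A : Set G)
    have hle : ClosedAbelian.NX A F ≤ N := inf_le_left
    set R := ((ClosedAbelian.NX A F).subgroupOf N).map P.phi with hR
    have hcard : Nat.card R = (centralizer (A : Set G)).relIndex (ClosedAbelian.NX A F) := by
      rw [hR, ← relIndex_ker, P.ker_phi, relIndex_subgroupOf hle]
    rw [← hcard] at hne hodd hdvd
    have hRK : R ≤ P.autK := Subgroup.map_le_range _ _
    obtain ⟨r, hr, hr1⟩ : ∃ r ∈ R, r ≠ 1 := by
      by_contra! hcon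
      exact hne (by rw [(Subgroup.eq_bot_iff_forall R).2 hcon, card_bot])
    have hF4 : Nat.card F ≤ 4 := by
      refine le_trans ?_ (hK.fix_le_four r (hRK hr) (hodd.of_dvd_nat (orderOf_dvd_natCard R hr)) hr1)
      refine Nat.card_le_card_of_injective
        (fun f : F => (⟨P.coord.symm ⟨f, hF f.2⟩, ?_⟩ : {v : V6 // r v = v})) fun a b e =>
          Subtype.ext (by
            have := congrArg (fun z : {v : V6 // r v = v} => (P.coord z.1 : G)) e
            simpa only [Equiv.apply_symm_apply] using this)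
      obtain ⟨n, hn, rfl⟩ := hr
      have hv : el (P.coord.symm ⟨f, hF f.2⟩) = (f : G) := by
        rw [← P.coord_apply, Equiv.apply_symm_apply]
      refine P.phi_eq ?_
      have hc : (f : G) * (n : G) = (n : G) * (f : G) := mem_centralizer_iff.1 (mem_inf.1 hn).2 f f.2
      rw [hv, ← hc, mul_inv_cancel_right]
    have hd := Subgroup.card_dvd_of_le hF
    rw [P.card_A] at hd hdvd
    have h63 : ¬ 63 ∣ Nat.card P.autK := by
      rcases hK.types with e | ⟨e | e, -⟩ | ⟨e, -⟩ <;> rw [e] <;> norm_num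
    have h15 := hK.odd_orbit R hRK hodd
    have := Nat.card_pos (α := F)
    interval_cases hF' : Nat.card F <;> first | (norm_num at hd; done) | norm_num at hdvd
    · exact h63 (hdvd.trans (card_dvd_of_le hRK))
    · exact h15.2 hdvd
    · exact h15.1 hdvd

end Cfsg.Agent.M24SylQ
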