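import Cfsg.Agent.Lib.M24SylQ.Coord
import Cfsg.Agent.Lib.M24SylQ.Wit

/-!
The facts about the group on the numbers below 512, as Boolean checks.
-/

set_option autoImplicit false
set_option maxRecDepth 20000

namespace Cfsg.Agent.M24SylQ

open Cfsg.Agent.PermCert

/-- The module as a list. -/
def aNums : List ℕ := List.range 64

/-- The number of elements of the module fixed by an element. -/
def cfixN (x : ℕ) : ℕ := (aNums.filter fun a => cmB x a).length

/-- At most sixteen fixed vectors outside the module. -/
def okSmall : Bool := allBelow (fun x => inA x || Nat.ble (cfixN x) 16) 512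

/-- Sixteen fixed vectors are invariant only for the central coset. -/
def okNotNormal : Bool := allBelow (fun x => inA x || inC x || Nat.blt (cfixN x) 16 ||
  aNums.any fun a => cmB x a && [1, 32, 64, 256].any fun g => !cmB x (cjN g a)) 512

/-- The centralizer of a class outside the central coset is abelian. -/
def okClass : Bool := allBelow (fun x => !isInv x || inC x ||
  (let L := nums.filter fun a => [0, 1, 2, 32, 64, 256].all fun g => cmB a (cjN g x)
   L.all fun a => L.all fun b => cmB a b)) 512

/-- Commutators with the module centralize the central coset. -/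
def okComm : Bool :=
  aNums.all (fun a => allBelow (fun g => cmB 128 (mN (cjN g a) a)) 512) &&
    allBelow (fun x => !inC x || aNums.all fun a => Bool.xor (cmB x a) (!cmB 128 a)) 512

/-- The central coset squares into the module; an element of order 4 modulo the module; splitting. -/
def okCoset : Bool :=
  allBelow (fun x => !inC x || allBelow (fun y => !inC y || inA (mN x y)) 512) 512 &&
  !inA (mN 320 320) &&
  allBelow (fun y => inA y || !inA (mN y y) || aNums.any fun a => Nat.beq (mN (mN y a) (mN y a)) 0) 512

/-- The masks and lists of a certificate. -/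
def okSets (c : Cert) : Bool :=
  isInv c.y && Nat.blt c.y 512 &&
  allBelow (fun x => Bool.xor (c.tM.testBit x) (!cmB x c.y)) 512 &&
  allBelow (fun x => Bool.xor (c.wM.testBit x)
    (!(c.tM.testBit x && allBelow (fun t => !c.tM.testBit t || cmB x t) 512))) 512 &&
  allBelow (fun x => Bool.xor (c.wM.testBit x) (!c.ws.any (Nat.beq x))) 512 &&
  c.ws.all (fun w => Nat.beq (mN w w) 0 && Nat.blt w 512) && c.wg.all (fun w => c.wM.testBit w) &&
  Nat.beq (2 * (c.ws.filter inA).length) c.ws.length

/-- The normalizer of the centre of the centralizer. -/
def okNorm (c : Cert) : Bool :=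
  allBelow (fun u => !(c.wg.all fun w => c.wM.testBit (cjN u w)) ||
      (c.tM.testBit (mN u u) && c.ws.all fun w => !inA w || Nat.beq (cjN u w) w)) 512 &&
    Nat.blt c.u 512 && Nat.blt c.v 512 &&
    c.ws.all (fun w => c.wM.testBit (cjN c.u w) && c.wM.testBit (cjN c.v w)) &&
    !Nat.beq (cjN c.u c.y) c.y && !Nat.beq (cjN c.v c.y) c.y &&
    !Nat.beq (cjN c.v c.y) (cjN c.u c.y)

/-- The central coset: the centre is normal. -/
def okCentral (c : Cert) : Bool :=
  allBelow (fun u => c.ws.all fun w => c.wM.testBit (cjN u w)) 512

/-- The other involutions. -/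
def okOther (c : Cert) : Bool :=
  Nat.beq (nums.filter fun x => c.tM.testBit x).length 64 &&
  c.tM.testBit c.a && c.tM.testBit c.b && Nat.blt c.a 512 && Nat.blt c.b 512 && !cmB c.a c.b &&
  Nat.beq c.ws.length 16 &&
  allBelow (fun x => !c.tM.testBit x || inA x || inA (mN x c.y) || inC x || inC (mN x c.y)) 512 &&
  allBelow (fun x => Bool.xor (c.eM.testBit x)
    (!(c.tM.testBit x && (inA x || inA (mN x c.y))))) 512 &&
  allBelow (fun x => Bool.xor (c.eM.testBit x) (!c.es.any (Nat.beq x))) 512 &&
  Nat.beq c.es.length 32 && c.eg.all (fun e => c.eM.testBit e && Nat.blt e 512) &&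
  allBelow (fun x => c.eM.testBit x || !(c.es.all fun e => cmB x e)) 512 &&
  allBelow (fun u => !(c.eg.all fun e => c.eM.testBit (cjN u e)) || c.eM.testBit (mN u u)) 512 &&
  Nat.ble 256 (nums.filter fun u => c.ws.all fun w => c.wM.testBit (cjN u w)).length &&
  Nat.ble 256 (nums.filter fun u => c.es.all fun e => c.eM.testBit (cjN u e)).length

/-- All checks for one certificate. -/
def okCert (c : Cert) : Bool :=
  okSets c && okNorm c && (if inC c.y then okCentral c else okOther c)

/-- Every involution outside the module is conjugate to a certified one. -/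
def okReps : Bool :=
  allBelow (fun y => !isInv y || conjTo.any fun p => Nat.beq p.1 y && Nat.blt p.2 512 &&
    certs.any fun c => Nat.beq (cjN p.2 y) c.y && (!inC y || inC c.y)) 512

theorem okSmall_true : okSmall = true := by decide +kernel
theorem okNotNormal_true : okNotNormal = true := by decide +kernel
theorem okClass_true : okClass = true := by decide +kernel
theorem okComm_true : okComm = true := by decide +kernel
theorem okCoset_true : okCoset = true := by decide +kernel

theorem okReps_true : okReps = true := by decide +kernel

theorem okCert_true : certs.all okCert = true := by decide +kernel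

end Cfsg.Agent.M24SylQ
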