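import Cfsg.Agent.Lib.M24SylQ.Tab
import Cfsg.Agent.Lib.Compute.PermCert

/-!
The quotient of a Sylow 2-subgroup of the Mathieu group of degree 24 by its centre on the numbers below 512:
the checks.
-/

set_option autoImplicit false

namespace Cfsg.Agent.M24SylQ

open Cfsg.Agent.PermCert

/-- The numbers below 512. -/
def nums : List ℕ := List.range 512

/-- The module part. -/
def vOf (n : ℕ) : ℕ := n &&& 63

/-- The dihedral part. -/
def kOf (n : ℕ) : ℕ := (n >>> 6) &&& 7

/-- The action. -/
def actN (k w : ℕ) : ℕ := ((actTab.getD k 0) >>> (6 * w)) &&& 63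

/-- The product in the dihedral part. -/
def kmN (k l : ℕ) : ℕ := (kTab >>> (3 * (8 * k + l))) &&& 7

/-- The product. -/
def mN (n m : ℕ) : ℕ :=
  Nat.xor (vOf n) (actN (kOf n) (vOf m)) % 64 + 64 * kmN (kOf n) (kOf m)

/-- The inverses in the dihedral part. -/
def kiN (k : ℕ) : ℕ := [0, 1, 2, 3, 4, 7, 6, 5].getD k 0

/-- The inverse. -/
def iN (n : ℕ) : ℕ := mN (64 * kiN (kOf n)) (vOf n)

/-- Commutation. -/
def cmB (a b : ℕ) : Bool := Nat.beq (mN a b) (mN b a)

/-- Conjugation. -/
def cjN (g x : ℕ) : ℕ := mN (mN g x) (iN g)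

/-- In the module. -/
def inA (n : ℕ) : Bool := Nat.blt n 64

/-- In the coset of the central involution of the dihedral part. -/
def inC (n : ℕ) : Bool := Nat.beq (kOf n) 2

/-- An involution outside the module. -/
def isInv (n : ℕ) : Bool := !inA n && Nat.beq (mN n n) 0

theorem mN_lt (n m : ℕ) : mN n m < 512 := by
  have h1 : kmN (kOf n) (kOf m) ≤ 7 := Nat.and_le_right
  have h2 : Nat.xor (vOf n) (actN (kOf n) (vOf m)) % 64 < 64 := Nat.mod_lt _ (by norm_num)
  unfold mN
  omega

/-- Inverses. -/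
def okI : Bool := allBelow (fun n => Nat.beq (mN (iN n) n) 0 && Nat.beq (vOf n + 64 * kOf n) n) 512

theorem okI_true : okI = true := by decide +kernel

end Cfsg.Agent.M24SylQ
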