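import Cfsg.Agent.Lib.M24SylQ.Shape
import Cfsg.Agent.Lib.ClosedAbelian.Basic
import Cfsg.Agent.Lib.LocalEven.AbelianClosed
import Cfsg.Agent.Lib.PushUp.Natural

/-!
The abelian subgroup of order 64 of a Sylow 2-subgroup of this type is strongly closed.
-/

set_option autoImplicit false
set_option linter.style.haveILetI false
set_option linter.unusedSectionVars false

namespace Cfsg.Agent.M24SylQ

open Subgroup Cfsg.Agent.ClosedAbelian

variable {G : Type*} [Group G] [Finite G] {S : Sylow 2 G} {A : Subgroup G} {isC : G → Prop}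

/-- The two standing hypotheses. -/
structure Setting (S : Sylow 2 G) (A : Subgroup G) (isC : G → Prop) : Prop where
  shape : Shape (S : Subgroup G) A isC
  uniq : ∀ B : Subgroup G, B ≤ (S : Subgroup G) → IsMulCommutative ↥B → Nat.card ↥B = 64 → B = A

theorem mul_mem_of_half {W H : Subgroup G} (hH : H ≤ W) (h : Nat.card H * 2 = Nat.card W) {a b : G}
    (ha : a ∈ W) (hb : b ∈ W) (ha' : a ∉ H) (hb' : b ∉ H) : a * b ∈ H := by
  have hidx : (H.subgroupOf W).index = 2 := by
    have h1 := (H.subgroupOf W).card_mul_index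
    rw [Nat.card_congr (subgroupOfEquivOfLe hH).toEquiv, ← h] at h1
    exact Nat.eq_of_mul_eq_mul_left Nat.card_pos h1
  exact mem_subgroupOf.1 ((Subgroup.mul_mem_iff_of_index_two hidx (a := ⟨a, ha⟩) (b := ⟨b, hb⟩)).2
    (iff_of_false (fun h' => ha' (mem_subgroupOf.1 h')) fun h' => hb' (mem_subgroupOf.1 h')))

theorem card_lt_of_lt {H K : Subgroup G} (h : H < K) : Nat.card H < Nat.card K := by
  rcases lt_or_ge (Nat.card H) (Nat.card K) with h' | h'
  · exact h'
  · exact absurd (eq_of_le_of_card_ge h.le h') h.ne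

variable (D : Setting S A isC)
include D

theorem Setting.le : A ≤ (S : Subgroup G) := D.shape.le

/-- A member of a class carried with its centralizer in `S` into `S` stays in `A`. -/
theorem Setting.mem_of_full {a : G} (ha : a ∈ A) {g : G}
    (hg : ∀ x ∈ (S : Subgroup G), x * a = a * x → g * x * g⁻¹ ∈ (S : Subgroup G)) : g * a * g⁻¹ ∈ A := by
  set B := A.map (MulAut.conj g).toMonoidHom with hB
  have hBc : IsMulCommutative ↥B := ⟨⟨by
    rintro ⟨_, u, hu, rfl⟩ ⟨_, v, hv, rfl⟩
    exact Subtype.ext (show MulAut.conj g u * MulAut.conj g v = MulAut.conj g v * MulAut.conj g u by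
      rw [← map_mul, ← map_mul, D.shape.comm u hu v hv])⟩⟩
  have hBA : B = A := D.uniq B (by
    rintro _ ⟨u, hu, rfl⟩
    exact hg u (D.le hu) (D.shape.comm u hu a ha)) hBc (by rw [hB, LEBasic.card_map_conj, D.shape.card_A])
  rw [← hBA]
  exact ⟨a, ha, rfl⟩

/-- An involution outside `A` fused into `A` does not have a Sylow centralizer in `S`. -/
theorem Setting.not_sylow {a g y : G} (ha : a ∈ A) (hy : y ∉ A) (hgy : g * a * g⁻¹ = y)
    (P : Sylow 2 ↥(centralizer ({y} : Set G)))
    (hP : (P : Subgroup ↥(centralizer ({y} : Set G))).map (Subgroup.subtype _) ≤ (S : Subgroup G)) :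
    False := by
  set Q := (tSub (S : Subgroup G) a).map (MulAut.conj g).toMonoidHom with hQ
  have hQC : Q ≤ centralizer ({y} : Set G) := by
    rintro _ ⟨x, hx, rfl⟩
    refine mem_centralizer_singleton_iff.2 ?_
    show g * x * g⁻¹ * y = y * (g * x * g⁻¹)
    rw [← hgy]
    calc g * x * g⁻¹ * (g * a * g⁻¹) = g * (x * a) * g⁻¹ := by group
      _ = g * (a * x) * g⁻¹ := by rw [mem_centralizer_singleton_iff.1 (mem_inf.1 hx).2]
      _ = _ := by group
  obtain ⟨c, hc, hle⟩ := LESylow.exists_conj_le_of_le hQC ((S.2.to_le inf_le_left).map _) P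
  refine hy ?_
  have h1 := D.mem_of_full ha (g := c * g) fun x hx hxa => by
    have h2 := hP (hle ⟨g * x * g⁻¹,
      ⟨x, mem_inf.2 ⟨hx, mem_centralizer_singleton_iff.2 hxa⟩, rfl⟩, rfl⟩)
    simpa [mul_assoc] using h2
  have h2 : c * g * a * (c * g)⁻¹ = y := by
    calc c * g * a * (c * g)⁻¹ = c * (g * a * g⁻¹) * c⁻¹ := by group
      _ = c * y * c⁻¹ := by rw [hgy]
      _ = y := by rw [mem_centralizer_singleton_iff.1 hc, mul_inv_cancel_right]
  rwa [h2] at h1

/-- A 2-element centralizing `y` that moves its centre. -/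
theorem Setting.exists_mover {a g y : G} (hy : y ∈ (S : Subgroup G)) (hyA : y ∉ A) (ha : a ∈ A)
    (hgy : g * a * g⁻¹ = y) :
    ∃ n : G, TwoEl n ∧ n * y = y * n ∧ n ∈ normalizer (tSub (S : Subgroup G) y : Set G) ∧
      n ∉ tSub (S : Subgroup G) y := by
  set T := tSub (S : Subgroup G) y with hT
  obtain ⟨P, hP⟩ := ((S.2.to_le (inf_le_left : T ≤ _)).comap_subtype
    (K := centralizer ({y} : Set G))).exists_le_sylow
  set R := (P : Subgroup ↥(centralizer ({y} : Set G))).map (Subgroup.subtype _) with hR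
  have hTR : T ≤ R := fun x hx => ⟨⟨x, (mem_inf.1 hx).2⟩, hP (mem_subgroupOf.2 hx), rfl⟩
  have hne : T ≠ R := fun h => D.not_sylow ha hyA hgy P (h.symm.le.trans inf_le_left)
  have hRp : IsPGroup 2 ↥R := P.2.map _
  obtain ⟨n, hn, hnT⟩ := SetLike.exists_of_lt
    (Fusion.lt_inf_normalizer hRp.isNilpotent (lt_of_le_of_ne hTR hne))
  exact ⟨n, TwoEl.of_group hRp (mem_inf.1 hn).1,
    mem_centralizer_singleton_iff.1 (map_subtype_le _ (mem_inf.1 hn).1), (mem_inf.1 hn).2, hnT⟩

/-- No involution whose centre has a Sylow normalizer in `S` is fused into `A`. -/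
theorem Setting.full_case {y a g : G} (W0 : Wit (S : Subgroup G) A isC y)
    (hU : ¬ 2 ∣ (nSub (S : Subgroup G) (wSub (S : Subgroup G) y)).relIndex
      (normalizer (wSub (S : Subgroup G) y : Set G)))
    (ha : a ∈ A) (hgy : g * a * g⁻¹ = y) : False := by
  obtain ⟨n, hn2, hny, hnT, hnT'⟩ := D.exists_mover W0.mem W0.out ha hgy
  set T := tSub (S : Subgroup G) y with hT
  set W := wSub (S : Subgroup G) y with hW
  set N := normalizer (W : Set G) with hN
  set U := nSub (S : Subgroup G) W with hUdef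
  set B := A ⊓ W with hB
  have hWT : W ≤ T := inf_le_left
  have hTC : T ≤ centralizer (W : Set G) := fun t ht =>
    mem_centralizer_iff.2 fun w hw => (mem_centralizer_iff.1 (mem_inf.1 hw).2 t ht).symm
  have hnN : n ∈ N := by
    have h := (LELarge.normalizer_le_normalizer_centralizer T) hnT
    exact Subgroup.inf_normalizer_le_normalizer_inf (mem_inf.2 ⟨hnT, h⟩)
  have hUp : IsPGroup 2 ↥U := S.2.to_le inf_le_left
  have hcomm : ∀ {p q : G}, p ∈ W → q ∈ W → p * q = q * p := fun {p q} hp hq =>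
    (mem_centralizer_iff.1 (mem_inf.1 hq).2 p (hWT hp))
  have hyW : y ∈ W := mem_inf.2 ⟨mem_inf.2 ⟨W0.mem, mem_centralizer_singleton_iff.2 rfl⟩,
    mem_centralizer_iff.2 fun t ht => mem_centralizer_singleton_iff.1 (mem_inf.1 ht).2⟩
  -- every 2-element of `N` is conjugate into `U`
  have hconj : ∀ x ∈ N, TwoEl x → ∃ m ∈ N, m * x * m⁻¹ ∈ U := by
    intro x hx hx2
    let P : Sylow 2 ↥N := IsPGroup.toSylow (P := U.subgroupOf N) hUp.comap_subtype hU
    obtain ⟨m, hm, hle⟩ := LESylow.exists_conj_le_of_le (zpowers_le.2 hx) hx2.isPGroup P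
    refine ⟨m, hm, ?_⟩
    have h := hle ⟨x, mem_zpowers x, rfl⟩
    have hUN : U ≤ N := inf_le_right
    rw [show (P : Subgroup ↥N) = U.subgroupOf N from rfl, map_subgroupOf_eq_of_le hUN] at h
    exact h
  have hsq : ∀ x ∈ N, TwoEl x → x * x ∈ centralizer (W : Set G) := by
    intro x hx hx2
    obtain ⟨m, hm, hmU⟩ := hconj x hx hx2
    have h1 := hTC (W0.norm_sq _ hmU)
    have h2 := (mem_normalizer_iff.1 (inv_mem (LELarge.normalizer_le_normalizer_centralizer W hm))
      _).1 h1
    rwa [show m⁻¹ * (m * x * m⁻¹ * (m * x * m⁻¹)) * m⁻¹⁻¹ = x * x by group] at h2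
  have hfix : ∀ x ∈ N, TwoEl x →
      Nat.card W ≤ Nat.card ↥(W ⊓ centralizer ({x} : Set G)) * 2 := by
    intro x hx hx2
    obtain ⟨m, hm, hmU⟩ := hconj x hx hx2
    have hle : B.map (MulAut.conj m⁻¹).toMonoidHom ≤ W ⊓ centralizer ({x} : Set G) := by
      rintro _ ⟨b, hb, rfl⟩
      refine mem_inf.2 ⟨(mem_normalizer_iff.1 (inv_mem hm) b).1 (mem_inf.1 hb).2,
        mem_centralizer_singleton_iff.2 ?_⟩
      have h := W0.norm_fix _ hmU b hb
      show m⁻¹ * b * m⁻¹⁻¹ * x = x * (m⁻¹ * b * m⁻¹⁻¹)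
      calc m⁻¹ * b * m⁻¹⁻¹ * x = m⁻¹ * (m * x * m⁻¹ * b * (m * x * m⁻¹)⁻¹) * m * x := by
            rw [h]; group
        _ = _ := by group
    have := Subgroup.card_le_of_le hle
    rw [LEBasic.card_map_conj] at this
    rw [← W0.half]
    exact Nat.mul_le_mul_right 2 this
  -- an element of `N` of order dividing 4 on `W` has order dividing 2 on `W`
  have hfour : ∀ P ∈ N, (P * P) * (P * P) ∈ centralizer (W : Set G) →
      P * P ∈ centralizer (W : Set G) := by
    intro P hP h4
    obtain ⟨s, r, hsr, hs, hr, hs2, hor⟩ := exists_parts P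
    have hsC := hsq s (zpowers_le.2 hP hs) hs2
    obtain ⟨i, hi⟩ := mem_zpowers_iff.1 hs
    obtain ⟨j, hj⟩ := mem_zpowers_iff.1 hr
    have hc : Commute s r := by rw [← hi, ← hj]; exact (Commute.refl P).zpow_zpow i j
    have h2 : P * P = s * s * (r * r) := by
      rw [← hsr]
      calc s * r * (s * r) = s * (r * s) * r := by simp [mul_assoc]
        _ = s * (s * r) * r := by rw [hc.eq]
        _ = _ := by simp [mul_assoc]
    have hrC : r ∈ centralizer (W : Set G) := by
      have hc2 : Commute (s * s) (r * r) := (hc.mul_right hc).mul_left (hc.mul_right hc)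
      have h3 : r * r * (r * r) ∈ centralizer (W : Set G) := by
        have := mul_mem (inv_mem (mul_mem hsC hsC)) h4
        rw [h2, show s * s * (r * r) * (s * s * (r * r)) = s * s * (r * r * (s * s)) * (r * r) by
          simp [mul_assoc], ← hc2.eq] at this
        simpa [mul_assoc] using this
      have h5 : Odd (orderOf (r * r)) := by
        rw [← pow_two]
        exact hor.of_dvd_nat (orderOf_pow_dvd 2)
      exact mem_of_sq_mem (mem_of_sq_mem h3 h5) hor
    rw [h2]
    exact mul_mem hsC (mul_mem hrC hrC)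
  -- the mover
  have hnC : n ∉ centralizer (W : Set G) := by
    intro hnC
    refine hnT' ?_
    have hsylC : ¬ 2 ∣ (U ⊓ centralizer (W : Set G)).relIndex (centralizer (W : Set G)) :=
      LEAbelianClosed.sylow_inf_normal (centralizer_le_normalizer _)
        (LELarge.normalizer_le_normalizer_centralizer W) inf_le_right hUp hU
    have hUC : U ⊓ centralizer (W : Set G) = T := by
      refine le_antisymm (fun x hx => mem_inf.2 ⟨(mem_inf.1 (mem_inf.1 hx).1).1, ?_⟩)
        (le_inf (le_inf inf_le_left (hTC.trans (centralizer_le_normalizer _))) hTC)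
      exact mem_centralizer_singleton_iff.2 (mem_centralizer_iff.1 (mem_inf.1 hx).2 y hyW).symm
    rw [hUC] at hsylC
    let P : Sylow 2 ↥(centralizer (W : Set G)) := IsPGroup.toSylow
      (P := T.subgroupOf (centralizer (W : Set G))) (S.2.to_le inf_le_left).comap_subtype hsylC
    set K := T ⊔ zpowers n with hK
    have hKp : IsPGroup 2 ↥K :=
      (S.2.to_le (inf_le_left : T ≤ _)).to_sup_of_normal_left' hn2.isPGroup (zpowers_le.2 hnT)
    have hKC : K ≤ centralizer (W : Set G) := sup_le hTC (zpowers_le.2 hnC)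
    have heq := P.is_maximal' (Q := K.subgroupOf (centralizer (W : Set G))) hKp.comap_subtype
      (fun x hx => mem_subgroupOf.2 (mem_sup_left (mem_subgroupOf.1 hx)))
    have : (⟨n, hnC⟩ : ↥(centralizer (W : Set G))) ∈ K.subgroupOf _ :=
      mem_subgroupOf.2 (mem_sup_right (mem_zpowers n))
    rw [heq] at this
    exact mem_subgroupOf.1 this
  set H := W ⊓ centralizer ({n} : Set G) with hH
  have hHhalf : Nat.card H * 2 = Nat.card W := by
    have hlt : H < W := lt_of_le_of_ne inf_le_left fun h => hnC (mem_centralizer_iff.2 fun w hw =>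
      mem_centralizer_singleton_iff.1 (mem_inf.1 (h.symm ▸ hw : w ∈ H)).2)
    have hcd : Nat.card H = Nat.card ↥(W ⊓ centralizer ({n} : Set G)) := rfl
    obtain ⟨k, hk⟩ := Subgroup.card_dvd_of_le (inf_le_left : H ≤ W)
    have h1 := card_lt_of_lt hlt
    have h2 := hfix n hnN hn2
    rw [← hH] at h2
    rcases k with _ | _ | _ | k
    · simp only [mul_zero] at hk; omega
    · simp only [zero_add, mul_one] at hk; omega
    · simp only [zero_add, Nat.mul_succ, mul_one] at hk ⊢; omega
    · nlinarith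
  have hyB : y ∉ B := fun h => W0.out (mem_inf.1 h).1
  have hyH : y ∈ H := mem_inf.2 ⟨hyW, mem_centralizer_singleton_iff.2 hny.symm⟩
  obtain ⟨w, hwB, hwH⟩ : ∃ w ∈ B, w ∉ H := by
    by_contra! h
    have hhalf := W0.half
    rw [← hB, ← hW] at hhalf
    exact hyB ((eq_of_le_of_card_ge h (by omega)) ▸ hyH)
  have hwW : w ∈ W := (mem_inf.1 hwB).2
  have hww : w * w = 1 := W0.sq w hwW
  have hyy : y * y = 1 := W0.sq y hyW
  set v := w * (n * w * n⁻¹) with hv
  have hnwW : n * w * n⁻¹ ∈ W := (mem_normalizer_iff.1 hnN w).1 hwW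
  have hnwH : n * w * n⁻¹ ∉ H := fun h => by
    refine hwH ?_
    have h1 := mem_centralizer_singleton_iff.1 (mem_inf.1 h).2
    simp only [inv_mul_cancel_right] at h1
    rw [mul_left_cancel (show n * w = n * (n * w * n⁻¹) from h1)]
    exact h
  have hvH : v ∈ H := mul_mem_of_half inf_le_left hHhalf hwW hnwW hwH hnwH
  have hnw : n * w * n⁻¹ = w * v := by rw [hv, ← mul_assoc, hww, one_mul]
  have hn_fix : ∀ z ∈ H, n * z * n⁻¹ = z := fun z hz => by
    rw [← mem_centralizer_singleton_iff.1 (mem_inf.1 hz).2, mul_inv_cancel_right]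
  have hv1 : v ≠ 1 := fun h => hwH (mem_inf.2 ⟨hwW, mem_centralizer_singleton_iff.2 (by
    rw [h, mul_one, mul_inv_eq_iff_eq_mul] at hnw
    exact hnw.symm)⟩)
  have hWsplit : ∀ z ∈ W, (z ∈ B ∧ z ∈ H) ∨ (z * w ∈ B ∧ z * w ∈ H) ∨ (z * y ∈ B ∧ z * y ∈ H) ∨
      (z * y * w ∈ B ∧ z * y * w ∈ H) := by
    intro z hz
    have hb2 : ∀ q ∈ W, q ∉ B → q * y ∈ B := fun q hq h => mul_mem_of_half inf_le_right
      (by rw [← W0.half]) hq hyW h hyB
    have hh2 : ∀ q ∈ W, q ∉ H → q * w ∈ H := fun q hq h =>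
      mul_mem_of_half inf_le_left hHhalf hq hwW h hwH
    by_cases h1 : z ∈ B
    · by_cases h2 : z ∈ H
      · exact Or.inl ⟨h1, h2⟩
      · exact Or.inr (Or.inl ⟨mul_mem h1 hwB, hh2 z hz h2⟩)
    · by_cases h2 : z * y ∈ H
      · exact Or.inr (Or.inr (Or.inl ⟨hb2 z hz h1, h2⟩))
      · exact Or.inr (Or.inr (Or.inr ⟨mul_mem (hb2 z hz h1) hwB, hh2 _ (mul_mem hz hyW) h2⟩))
  -- each mover `u` of `y` in `S`
  have key : ∀ u ∈ U, u * y * u⁻¹ ≠ y →
      y * (u * y * u⁻¹) ∈ B ∧ (v ∈ B → y * (u * y * u⁻¹) = v) ∧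
        (v ∉ B → y * (u * y * u⁻¹) ∉ H) := by
    intro u hu hmove
    set t := y * (u * y * u⁻¹) with ht
    have huN : u ∈ N := (mem_inf.1 hu).2
    have huy : u * y * u⁻¹ = y * t := by rw [ht, ← mul_assoc, hyy, one_mul]
    have huW : u * y * u⁻¹ ∈ W := (mem_normalizer_iff.1 huN y).1 hyW
    have huB : u * y * u⁻¹ ∉ B := fun h => by
      have h1 := W0.norm_fix _ (inv_mem hu) _ h
      simp only [inv_inv] at h1
      rw [show u⁻¹ * (u * y * u⁻¹) * u = y by group] at h1
      exact hyB (h1 ▸ h)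
    have htB : t ∈ B := mul_mem_of_half inf_le_right (by rw [← W0.half]) hyW huW hyB huB
    have ht1 : t ≠ 1 := fun h => hmove (by rw [huy, h, mul_one])
    have hu_fix : ∀ b ∈ B, u * b * u⁻¹ = b := W0.norm_fix u hu
    set P := n * u with hP
    have hPN : P ∈ N := mul_mem hnN huN
    have hPm : ∀ z z' : G, P * (z * z') * P⁻¹ = P * z * P⁻¹ * (P * z' * P⁻¹) := fun z z' => by group
    have hPs : ∀ z : G, P * z * P⁻¹ = n * (u * z * u⁻¹) * n⁻¹ := fun z => by rw [hP]; group
    have hP2 : ∀ z : G, P * P * z * (P * P)⁻¹ = P * (P * z * P⁻¹) * P⁻¹ := fun z => by group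
    have hPw : P * w * P⁻¹ = w * v := by rw [hPs, hu_fix w hwB, hnw]
    have hPy : P * y * P⁻¹ = y * (n * t * n⁻¹) := by
      rw [hPs, huy, show n * (y * t) * n⁻¹ = n * y * n⁻¹ * (n * t * n⁻¹) by group, hn_fix y hyH]
    have hPD : ∀ z, z ∈ B → z ∈ H → P * z * P⁻¹ = z := fun z h1 h2 => by
      rw [hPs, hu_fix z h1, hn_fix z h2]
    have hcent : ∀ Q : G, Q * w * Q⁻¹ = w → Q * y * Q⁻¹ = y →
        (∀ z, z ∈ B → z ∈ H → Q * z * Q⁻¹ = z) → Q ∈ centralizer (W : Set G) := by
      intro Q hQw hQy hQD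
      refine mem_centralizer_iff.2 fun z hz => ?_
      have cw : Commute Q w := mul_inv_eq_iff_eq_mul.1 hQw
      have cy : Commute Q y := mul_inv_eq_iff_eq_mul.1 hQy
      have cd : ∀ d, d ∈ B → d ∈ H → Commute Q d := fun d h1 h2 =>
        mul_inv_eq_iff_eq_mul.1 (hQD d h1 h2)
      suffices Commute Q z from this.eq.symm
      rcases hWsplit z hz with ⟨h1, h2⟩ | ⟨h1, h2⟩ | ⟨h1, h2⟩ | ⟨h1, h2⟩
      · exact cd z h1 h2
      · simpa [mul_assoc] using (cd _ h1 h2).mul_right cw.inv_right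
      · simpa [mul_assoc] using (cd _ h1 h2).mul_right cy.inv_right
      · simpa [mul_assoc] using ((cd _ h1 h2).mul_right cw.inv_right).mul_right cy.inv_right
    have hQ4 : ∀ z : G, P * P * (P * P) * z * (P * P * (P * P))⁻¹ =
        P * P * (P * P * z * (P * P)⁻¹) * (P * P)⁻¹ := fun z => by group
    have htW : t ∈ W := (mem_inf.1 htB).2
    have htt : t * t = 1 := W0.sq t htW
    have hvv : v * v = 1 := W0.sq v (mem_inf.1 hvH).1
    have h2D : ∀ z, z ∈ B → z ∈ H → P * P * z * (P * P)⁻¹ = z := fun z h1 h2 => by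
      rw [hP2, hPD z h1 h2, hPD z h1 h2]
    refine ⟨htB, fun hvB => ?_, fun hvB htH => ?_⟩
    · have hPv : P * v * P⁻¹ = v := hPD v hvB hvH
      have hPw2 : P * P * w * (P * P)⁻¹ = w := by
        rw [hP2, hPw, hPm, hPw, hPv, mul_assoc, hvv, mul_one]
      by_cases htH : t ∈ H
      · -- commuting transvections
        have hPy' : P * y * P⁻¹ = y * t := by rw [hPy, hn_fix t htH]
        have hPt : P * t * P⁻¹ = t := hPD t htB htH
        have hPP : P * P ∈ centralizer (W : Set G) := hcent _ hPw2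
          (by rw [hP2, hPy', hPm, hPy', hPt, mul_assoc, htt, mul_one]) h2D
        obtain ⟨s, r, hsr, hs, hr, hs2, hor⟩ := exists_parts P
        obtain ⟨j, hj⟩ := mem_zpowers_iff.1 hr
        have hrC : r ∈ centralizer (W : Set G) := by
          refine mem_of_sq_mem ?_ hor
          rw [← hj, ← zpow_add, show j + j = 2 * j by ring, zpow_mul, zpow_two]
          exact zpow_mem hPP j
        have hsf : ∀ z ∈ W, P * z * P⁻¹ = s * z * s⁻¹ := fun z hz => by
          rw [← hsr]
          calc s * r * z * (s * r)⁻¹ = s * (r * z * r⁻¹) * s⁻¹ := by group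
            _ = _ := by rw [← mem_centralizer_iff.1 hrC z hz, mul_inv_cancel_right]
        by_contra hne
        have hle : W ⊓ centralizer ({s} : Set G) ≤ B ⊓ H := by
          intro z hz
          obtain ⟨hzW, hzs⟩ := mem_inf.1 hz
          have hPz : P * z * P⁻¹ = z := by
            rw [hsf z hzW, ← mem_centralizer_singleton_iff.1 hzs, mul_inv_cancel_right]
          rcases hWsplit z hzW with ⟨h1, h2⟩ | ⟨h1, h2⟩ | ⟨h1, h2⟩ | ⟨h1, h2⟩
          · exact mem_inf.2 ⟨h1, h2⟩
          · exfalso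
            have h3 := hPD _ h1 h2
            rw [hPm, hPz, hPw, mul_left_cancel_iff] at h3
            exact hv1 (mul_eq_left.1 h3)
          · exfalso
            have h3 := hPD _ h1 h2
            rw [hPm, hPz, hPy', mul_left_cancel_iff] at h3
            exact ht1 (mul_eq_left.1 h3)
          · exfalso
            have h3 := hPD _ h1 h2
            rw [hPm, hPm, hPz, hPy', hPw] at h3
            refine hne ?_
            have h4 : y * t * (w * v) = y * w := by
              refine mul_left_cancel (a := z) ?_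
              simpa [mul_assoc] using h3
            have h5 : t * v = 1 := by
              have h6 : y * w * (t * v) = y * w := by
                calc y * w * (t * v) = y * (w * t) * v := by simp [mul_assoc]
                  _ = y * (t * w) * v := by rw [hcomm hwW htW]
                  _ = y * t * (w * v) := by simp [mul_assoc]
                  _ = y * w := h4
              exact mul_eq_left.1 h6
            rw [← inv_eq_of_mul_eq_one_right h5, inv_eq_of_mul_eq_one_right htt]
        have hsN : s ∈ N := zpowers_le.2 hPN hs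
        have h1 := hfix s hsN hs2
        have h2 := Subgroup.card_le_of_le hle
        have h3 : B ⊓ H < B := lt_of_le_of_ne inf_le_left fun h => hwH (mem_inf.1 (show w ∈ B ⊓ H by rw [h]; exact hwB)).2
        have h4 := card_lt_of_lt h3
        have hh := W0.half
        rw [← hB, ← hW] at hh
        omega
      · -- order 4
        exfalso
        have hnt : n * t * n⁻¹ = t * v := by
          have h1 : n * (t * w) * n⁻¹ = t * w :=
            hn_fix _ (mul_mem_of_half inf_le_left hHhalf htW hwW htH hwH)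
          have h2 : n * t * n⁻¹ * (w * v) = t * w := by
            rw [← hnw]
            calc n * t * n⁻¹ * (n * w * n⁻¹) = n * (t * w) * n⁻¹ := by group
              _ = t * w := h1
          have h3 : n * t * n⁻¹ = t * w * (w * v)⁻¹ := eq_mul_inv_of_mul_eq h2
          rw [h3, mul_inv_rev, inv_eq_of_mul_eq_one_right hvv, inv_eq_of_mul_eq_one_right hww,
            hcomm (mem_inf.1 hvH).1 hwW, ← mul_assoc, mul_assoc t w w, hww, mul_one]
        have hPt : P * t * P⁻¹ = t * v := by rw [hPs, hu_fix t htB, hnt]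
        have hPy2 : P * P * y * (P * P)⁻¹ = y * v := by
          rw [hP2, hPy, hnt, hPm, hPm, hPy, hnt, hPt, hPv]
          calc y * (t * v) * (t * v * v) = y * (t * (v * t) * (v * v)) := by simp [mul_assoc]
            _ = y * (t * (t * v)) := by rw [hvv, mul_one, hcomm (mem_inf.1 hvH).1 htW]
            _ = y * v := by rw [← mul_assoc t, htt, one_mul]
        have h4 : P * P * (P * P) ∈ centralizer (W : Set G) := by
          refine hcent _ (by rw [hQ4, hPw2, hPw2]) ?_ fun z h1 h2 => by rw [hQ4, h2D z h1 h2, h2D z h1 h2]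
          rw [hQ4, hPy2, show P * P * (y * v) * (P * P)⁻¹ =
            P * P * y * (P * P)⁻¹ * (P * P * v * (P * P)⁻¹) by group, hPy2, h2D v hvB hvH, mul_assoc,
            hvv, mul_one]
        have h5 := mem_centralizer_iff.1 (hfour P hPN h4) y hyW
        rw [← h5, mul_inv_cancel_right] at hPy2
        exact hv1 (mul_eq_left.1 hPy2.symm)
    · exfalso
      have hPy' : P * y * P⁻¹ = y * t := by rw [hPy, hn_fix t htH]
      have hPt : P * t * P⁻¹ = t := hPD t htB htH
      have hvy : v * y ∈ B := mul_mem_of_half inf_le_right (by rw [← W0.half]) (mem_inf.1 hvH).1 hyW hvB hyB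
      have hPv : P * v * P⁻¹ = v * t := by
        have h1 := hPD (v * y) hvy (mul_mem hvH hyH)
        rw [hPm, hPy'] at h1
        have h2 : P * v * P⁻¹ = v * y * (y * t)⁻¹ := eq_mul_inv_of_mul_eq h1
        rw [h2, mul_inv_rev, inv_eq_of_mul_eq_one_right hyy, inv_eq_of_mul_eq_one_right htt,
          hcomm htW hyW, ← mul_assoc, mul_assoc v y y, hyy, mul_one]
      have hPy2 : P * P * y * (P * P)⁻¹ = y := by
        rw [hP2, hPy', hPm, hPy', hPt, mul_assoc, htt, mul_one]
      have hPw2 : P * P * w * (P * P)⁻¹ = w * t := by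
        rw [hP2, hPw, hPm, hPw, hPv]
        calc w * v * (v * t) = w * (v * v) * t := by simp [mul_assoc]
          _ = w * t := by rw [hvv, mul_one]
      have h4 : P * P * (P * P) ∈ centralizer (W : Set G) := by
        refine hcent _ ?_ (by rw [hQ4, hPy2, hPy2]) fun z h1 h2 => by rw [hQ4, h2D z h1 h2, h2D z h1 h2]
        rw [hQ4, hPw2, show P * P * (w * t) * (P * P)⁻¹ =
          P * P * w * (P * P)⁻¹ * (P * P * t * (P * P)⁻¹) by group, hPw2, h2D t htB htH, mul_assoc,
          htt, mul_one]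
      have h5 := mem_centralizer_iff.1 (hfour P hPN h4) w hwW
      rw [← h5, mul_inv_cancel_right] at hPw2
      exact ht1 (mul_eq_left.1 hPw2.symm)
  obtain ⟨u₁, hu₁, u₂, hu₂, hm₁, hm₂, hm⟩ := W0.movers
  obtain ⟨hB₁, he₁, hn₁⟩ := key u₁ hu₁ hm₁
  obtain ⟨hB₂, he₂, hn₂⟩ := key u₂ hu₂ hm₂
  by_cases hvB : v ∈ B
  · exact hm (mul_left_cancel ((he₂ hvB).trans (he₁ hvB).symm))
  · have hH₁ := hn₁ hvB
    have hH₂ := hn₂ hvB
    set t₁ := y * (u₁ * y * u₁⁻¹) with ht₁
    set t₂ := y * (u₂ * y * u₂⁻¹) with ht₂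
    have h12 : u₁ * u₂ * y * (u₁ * u₂)⁻¹ = y * (t₁ * t₂) := by
      have h1 : u₂ * y * u₂⁻¹ = y * t₂ := by rw [ht₂, ← mul_assoc, hyy, one_mul]
      have h2 : u₁ * y * u₁⁻¹ = y * t₁ := by rw [ht₁, ← mul_assoc, hyy, one_mul]
      calc u₁ * u₂ * y * (u₁ * u₂)⁻¹ = u₁ * (u₂ * y * u₂⁻¹) * u₁⁻¹ := by group
        _ = u₁ * y * u₁⁻¹ * (u₁ * t₂ * u₁⁻¹) := by rw [h1]; group
        _ = y * (t₁ * t₂) := by rw [W0.norm_fix u₁ hu₁ t₂ hB₂, h2, mul_assoc]
    have hne : u₁ * u₂ * y * (u₁ * u₂)⁻¹ ≠ y := by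
      rw [h12]
      intro h
      have h' := mul_eq_left.1 h
      refine hm (mul_left_cancel (a := y) ?_)
      show t₂ = t₁
      rw [← inv_eq_of_mul_eq_one_right h', inv_eq_of_mul_eq_one_right (W0.sq t₁ (mem_inf.1 hB₁).2)]
    refine (key _ (mul_mem hu₁ hu₂) hne).2.2 hvB ?_
    rw [h12, ← mul_assoc y y, hyy, one_mul]
    exact mul_mem_of_half inf_le_left hHhalf (mem_inf.1 hB₁).2 (mem_inf.1 hB₂).2 hH₁ hH₂

end Cfsg.Agent.M24SylQ
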