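import Cfsg.Agent.Lib.M24SylQ.Coord
import Cfsg.Agent.Lib.Golay.SylowQuot

/-!
The check that the numbers below 512 match the quotient of the Sylow 2-subgroup by its centre.
-/

set_option autoImplicit false
set_option maxRecDepth 20000

namespace Cfsg.Agent.M24SylQ

open Cfsg.Agent.PermCert Cfsg.Agent.Golay

/-- The code of a vector. -/
def cV (v : ℕ) : ℕ := SylQ.c (idxA.getD v 0)

/-- The code of an element of the dihedral part. -/
def cK (k : ℕ) : ℕ := SylQ.c (idxK.getD k 0)

/-- The matching is a homomorphism onto. -/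
def okIso : Bool :=
  allBelow (fun v => SylQ.aList.any (Nat.beq (idxA.getD v 0))) 64 &&
  allBelow (fun k => Nat.blt (idxK.getD k 0) 1024) 8 &&
  allBelow (fun v => allBelow (fun w =>
    SylQ.eqz (SylQ.cm (cV v) (cV w)) (cV (Nat.xor v w % 64))) 64) 64 &&
  allBelow (fun k => allBelow (fun l =>
    SylQ.eqz (SylQ.cm (cK k) (cK l)) (cK (kmN k l))) 8) 8 &&
  allBelow (fun k => allBelow (fun w =>
    SylQ.eqz (SylQ.cm (cK k) (cV w)) (SylQ.cm (cV (actN k w)) (cK k))) 64) 8 &&
  allBelow (fun i => let n := SB.look clsRows 0 i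
    Nat.blt n 512 && SylQ.eqz (SylQ.cm (cV (vOf n)) (cK (kOf n))) (SylQ.c i)) 1024

theorem okIso_true : okIso = true := by decide +kernel

end Cfsg.Agent.M24SylQ
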