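import Cfsg.Agent.Lib.M24SylQ.KChecks

/-! The maps of order three cycling the involutions of the two four-groups of the dihedral group. -/

set_option autoImplicit false
set_option maxRecDepth 100000
set_option Elab.async false

namespace Cfsg.Agent.M24SylQ

/-- A number as a vector. -/
def fv (n : ℕ) : V6 := ⟨n % 64, Nat.mod_lt _ (by decide)⟩

/-- The basis. -/
def bas : List V6 := [1, 2, 4, 8, 16, 32]

/-- The map of a list of images. -/
def mkL (l : List ℕ) : V6 → V6 :=
  mk6 (fv (l.getD 0 0)) (fv (l.getD 1 0)) (fv (l.getD 2 0)) (fv (l.getD 3 0)) (fv (l.getD 4 0)) (fv (l.getD 5 0))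

/-- The images of the basis. -/
def imgs (r : V6 → V6) : List ℕ := bas.map fun e => (r e).val

/-- The maps of type `s`. -/
def sMaps : List (List ℕ) :=
  [[1, 4, 6, 8, 48, 16], [1, 4, 6, 8, 52, 22], [1, 4, 6, 8, 56, 24], [1, 4, 6, 8, 60, 30],
   [3, 4, 6, 8, 48, 16], [3, 4, 6, 8, 52, 22], [3, 4, 6, 8, 56, 24], [3, 4, 6, 8, 60, 30],
   [33, 12, 14, 8, 48, 16], [35, 12, 14, 8, 56, 24], [37, 12, 14, 8, 52, 30], [39, 12, 14, 8, 60, 22],
   [41, 12, 14, 8, 56, 24], [43, 12, 14, 8, 48, 16], [45, 12, 14, 8, 60, 22], [47, 12, 14, 8, 52, 30]]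

/-- The maps of type `t`. -/
def tMaps : List (List ℕ) :=
  [[2, 3, 4, 24, 8, 32], [2, 3, 4, 24, 8, 48], [2, 3, 4, 28, 12, 33], [2, 3, 4, 28, 12, 53],
   [6, 7, 4, 24, 8, 32], [6, 7, 4, 24, 8, 48], [6, 7, 4, 28, 12, 37], [6, 7, 4, 28, 12, 49],
   [26, 11, 4, 24, 8, 32], [26, 11, 4, 24, 8, 48], [26, 15, 4, 28, 12, 45], [26, 15, 4, 28, 12, 57],
   [30, 11, 4, 28, 12, 41], [30, 11, 4, 28, 12, 61], [30, 15, 4, 24, 8, 32], [30, 15, 4, 24, 8, 48]]

/-- The conditions on a map cycling `x, cP, x * cP` and inverted by `o`. -/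
def cycB (x o : Equiv.Perm V6) (r : V6 → V6) : Bool :=
  bas.all fun e => decide (r (x e) = cP (r e)) && decide (r (cP e) = x (cP (r e))) &&
    decide (o (r (o (r e))) = e) && decide (r (r (r e)) = e)

/-- The candidate of type `s` from three images. -/
def sCand (a b d : V6) : V6 → V6 :=
  mk6 d (dl cP d) (dl (sP * cP) d) (dl (sP * cP) a) b a

/-- The candidate of type `t` from three images. -/
def tCand (a b d : V6) : V6 → V6 :=
  mk6 a b (dl (tP * cP) a) (dl (tP * cP) d) (dl cP d) d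

theorem sCand_ok : ∀ a, cP a = a → ∀ b, (sP * cP) b = b → dl cP b = dl (sP * cP) a →
    ∀ d, cycB sP tP (sCand a b d) = true → imgs (sCand a b d) ∈ sMaps := by decide +kernel

theorem tCand_ok : ∀ a, cP a = a → ∀ b, (tP * cP) b = b → dl cP b = dl (tP * cP) a →
    ∀ d, cycB tP sP (tCand a b d) = true → imgs (tCand a b d) ∈ tMaps := by decide +kernel

theorem basis_cand : cP 32 = vx 32 8 ∧ dl sP 1 = 2 ∧ dl cP 1 = 4 ∧ dl cP 32 = 8 ∧ dl sP 16 = 8 ∧ sP 32 = 32 ∧
    cP 16 = 16 ∧ tP 1 = 1 ∧ cP 2 = 2 ∧ dl tP 32 = 16 ∧ dl tP 2 = 4 := by decide +kernel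

/-- The number of fixed vectors. -/
def fixN (r : V6 → V6) : ℕ := ((List.range 64).filter fun n => decide (r (fv n) = fv n)).length

theorem fix_maps : (sMaps ++ tMaps).all (fun l => Nat.ble (fixN (mkL l)) 4) = true := by decide +kernel

/-- A pair gives an element of order seven with at most four fixed vectors. -/
def pairB (l m : List ℕ) : Bool :=
  let w := fun v => mkL l (mkL m (mkL m v))
  (bas.all fun e => decide (w (w (w (w (w (w (w e)))))) = e)) && !(bas.all fun e => decide (w e = e)) &&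
    Nat.ble (fixN w) 4

theorem pair_ok : sMaps.all (fun l => tMaps.all (pairB l)) = true := by decide +kernel

end Cfsg.Agent.M24SylQ
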