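import Cfsg.Agent.Lib.M24SylQ.KChecks
import Mathlib.GroupTheory.Sylow

/-!
In a group of linear maps with the dihedral group as Sylow 2-subgroup the centralisers of involutions are
2-groups.
-/

set_option autoImplicit false

namespace Cfsg.Agent.M24SylQ

theorem mem_D8 {x : Equiv.Perm V6} : x ∈ D8 ↔ x ∈ d8L := by
  have hs : sP ∈ D8 := Subgroup.subset_closure (by simp)
  have ht : tP ∈ D8 := Subgroup.subset_closure (by simp)
  have hc : cP ∈ D8 := mul_mem (mul_mem hs ht) (mul_mem hs ht)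
  constructor
  · intro hx
    rw [D8, ← Subgroup.mem_toSubmonoid, Subgroup.closure_toSubmonoid_of_finite] at hx
    induction hx using Submonoid.closure_induction_left with
    | one => simp [d8L]
    | mul_left a ha y _ hy =>
      rcases ha with rfl | rfl
      exacts [(d8L_mul y hy).1, (d8L_mul y hy).2]
  · intro hx
    simp only [d8L, List.mem_cons, List.not_mem_nil, or_false] at hx
    rcases hx with rfl | rfl | rfl | rfl | rfl | rfl | rfl | rfl
    exacts [one_mem _, hs, ht, mul_mem hs ht, mul_mem ht hs, hc, mul_mem hs hc, mul_mem ht hc]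

theorem sP_mem : sP ∈ D8 := mem_D8.2 (by simp [d8L])

theorem tP_mem : tP ∈ D8 := mem_D8.2 (by simp [d8L])

theorem cP_mem : cP ∈ D8 := mem_D8.2 (by simp [d8L])

theorem card_D8 : Nat.card D8 = 8 := by
  classical
  rw [Nat.card_congr (Equiv.subtypeEquivRight (q := fun x => x ∈ d8L.toFinset) fun x => by
      rw [List.mem_toFinset]; exact mem_D8), Nat.card_eq_finsetCard,
    List.toFinset_card_of_nodup d8L_nodup]
  rfl

theorem eq_one_of_odd {r : Equiv.Perm V6} (hr : Odd (orderOf r)) {n : ℕ} (h : r ^ 2 ^ n = 1) : r = 1 :=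
  orderOf_eq_one_iff.1
    (Nat.eq_one_of_dvd_coprimes ((Nat.coprime_two_right.2 hr).pow_right n) dvd_rfl (orderOf_dvd_of_pow_eq_one h))

theorem odd_conj {r g : Equiv.Perm V6} (hr : Odd (orderOf r)) : Odd (orderOf (g * r * g⁻¹)) := by
  rwa [show g * r * g⁻¹ = MulAut.conj g r from rfl, MulEquiv.orderOf_eq]

theorem odd_pow {r : Equiv.Perm V6} (hr : Odd (orderOf r)) (n : ℕ) : Odd (orderOf (r ^ n)) :=
  hr.of_dvd_nat (orderOf_pow_dvd n)

/-- A linear map commuting with both reflections has order dividing four. -/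
theorem pow_four_of_comm {r : Equiv.Perm V6} (hr : IsLin r) (hs : r * sP = sP * r) (ht : r * tP = tP * r) :
    r ^ 4 = 1 := by
  have cs : ∀ v, r (sP v) = sP (r v) := fun v => by rw [← Equiv.Perm.mul_apply, hs, Equiv.Perm.mul_apply]
  have ct : ∀ v, r (tP v) = tP (r v) := fun v => by rw [← Equiv.Perm.mul_apply, ht, Equiv.Perm.mul_apply]
  have ds : ∀ v, r (dl sP v) = dl sP (r v) := fun v => by rw [dl, dl, hr, cs]
  have dt : ∀ v, r (dl tP v) = dl tP (r v) := fun v => by rw [dl, dl, hr, ct]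
  obtain ⟨b1, b2, b3, b4⟩ := basis_rel
  have e : ∀ v, mk6 (r 1) (dl sP (r 1)) (dl tP (dl sP (r 1))) (dl sP (dl tP (r 32))) (dl tP (r 32)) (r 32) v = r v := by
    intro v
    rw [← ds, b1, ← dt, b2, ← dt, b3, ← ds, b4, ← hr.eval]
  have h := comB_ok (r 1) (by rw [← ct, basis_fix.1]) (r 32) (by rw [← cs, basis_fix.2])
  simp only [comB, e, cs, ct, Bool.or_eq_true, Bool.and_eq_true, List.all_eq_true, decide_eq_true_eq,
    Bool.not_eq_true'] at h
  have h4 : ∀ i ∈ List.range 6, r (r (r (r ⟨2 ^ i % 64, Nat.mod_lt _ (by decide)⟩))) =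
      (⟨2 ^ i % 64, Nat.mod_lt _ (by decide)⟩ : V6) := by
    rcases h with (h | h) | ⟨v, hv, h⟩
    · simp at h
    · exact h
    · exact absurd (r.injective (h.trans hr.map_zero.symm)) hv
  have hp : ∀ v, (r ^ 4) v = r (r (r (r v))) := fun v => rfl
  refine (hr.pow 4).ext6 IsLin.one ?_ ?_ ?_ ?_ ?_ ?_ <;> rw [hp, Equiv.Perm.one_apply]
  · exact h4 0 (by simp)
  · exact h4 1 (by simp)
  · exact h4 2 (by simp)
  · exact h4 3 (by simp)
  · exact h4 4 (by simp)
  · exact h4 5 (by simp)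

/-- The maps in the centraliser of `k` acting trivially on its layers. -/
def layerGroup (K : Subgroup (Equiv.Perm V6)) {k : Equiv.Perm V6} (hk : IsLin k) (hk2 : k * k = 1) : Subgroup (Equiv.Perm V6) where
  carrier := {g | g ∈ K ∧ g * k = k * g ∧ Layer k g}
  mul_mem' := fun {a b} ⟨a1, a2, a3⟩ ⟨b1, b2, b3⟩ =>
    ⟨mul_mem a1 b1, by rw [mul_assoc, b2, ← mul_assoc, a2, mul_assoc], a3.mul hk hk2 b3⟩
  one_mem' := ⟨one_mem _, by rw [one_mul, mul_one], Layer.one hk⟩
  inv_mem' := fun {a} ⟨a1, a2, a3⟩ => by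
    have e : a⁻¹ = a * (a * a) :=
      inv_eq_of_mul_eq_one_right (by
        have := a3.pow_four
        simpa [pow_succ, mul_assoc] using this)
    refine ⟨inv_mem a1, ?_, ?_⟩
    · rw [eq_mul_inv_iff_mul_eq, mul_assoc, ← a2, inv_mul_cancel_left]
    · rw [e]; exact a3.mul hk hk2 (a3.mul hk hk2 a3)

variable {K : Subgroup (Equiv.Perm V6)} (h : KGroup K)
include h

theorem KGroup.cP_memK : cP ∈ K := h.le cP_mem

theorem KGroup.card_eq : Nat.card K = 8 * D8.relIndex K := by
  rw [← (D8.subgroupOf K).card_mul_index, Nat.card_congr (Subgroup.subgroupOfEquivOfLe h.le).toEquiv, card_D8]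
  rfl

theorem KGroup.card_two_dvd {Q : Subgroup (Equiv.Perm V6)} (hQ : IsPGroup 2 Q) (hle : Q ≤ K) :
    Nat.card Q ∣ 8 := by
  haveI : Fact (Nat.Prime 2) := ⟨Nat.prime_two⟩
  obtain ⟨n, hn⟩ := IsPGroup.iff_card.1 hQ
  refine Nat.Coprime.dvd_of_dvd_mul_right ?_ (h.card_eq ▸ Subgroup.card_dvd_of_le hle)
  rw [hn]
  exact Nat.Coprime.pow_left n ((Nat.prime_two.coprime_iff_not_dvd).2 h.odd)

/-- A 2-subgroup is conjugate into the dihedral group. -/
theorem KGroup.exists_conj {Q : Subgroup (Equiv.Perm V6)} (hQ : IsPGroup 2 Q) (hle : Q ≤ K) :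
    ∃ g ∈ K, ∀ q ∈ Q, g * q * g⁻¹ ∈ D8 := by
  haveI : Fact (Nat.Prime 2) := ⟨Nat.prime_two⟩
  let D := D8.subgroupOf K
  letI : MulAction Q (K ⧸ D) := MulAction.compHom _ (Subgroup.inclusion hle)
  obtain ⟨x, hx⟩ := hQ.nonempty_fixed_point_of_prime_not_dvd_card (K ⧸ D) h.odd
  induction x using QuotientGroup.induction_on with
  | _ g =>
    refine ⟨(g : Equiv.Perm V6)⁻¹, inv_mem g.2, fun q hq => ?_⟩
    have e : ((Subgroup.inclusion hle ⟨q, hq⟩ * g : K) : K ⧸ D) = (g : K ⧸ D) := hx ⟨q, hq⟩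
    rw [QuotientGroup.eq, Subgroup.mem_subgroupOf] at e
    have e' := inv_mem e
    simpa [mul_assoc] using e'

theorem KGroup.layers_conj {k : Equiv.Perm V6} (hk : IsLin k) (hk2 : k * k = 1) {r g : Equiv.Perm V6}
    (hr : r ∈ K) (hrk : r * k = k * r) (hg : g ∈ layerGroup K hk hk2) : r * g * r⁻¹ ∈ layerGroup K hk hk2 := by
  obtain ⟨g1, g2, g3⟩ := hg
  refine ⟨mul_mem (mul_mem hr g1) (inv_mem hr), ?_, g3.conj (h.lin r hr) hrk⟩
  have e : r⁻¹ * k = k * r⁻¹ := by rw [eq_mul_inv_iff_mul_eq, mul_assoc, ← hrk, inv_mul_cancel_left]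
  rw [mul_assoc _ r⁻¹, e, ← mul_assoc, mul_assoc r g, g2, ← mul_assoc, hrk, mul_assoc k, mul_assoc k]

theorem KGroup.layers_two {k : Equiv.Perm V6} (hk : IsLin k) (hk2 : k * k = 1) : IsPGroup 2 (layerGroup K hk hk2) :=
  fun g => ⟨2, Subtype.ext (by simpa using g.2.2.2.pow_four)⟩

/-- No odd element centralises the central involution. -/
theorem KGroup.odd_cent_c {r : Equiv.Perm V6} (hr : r ∈ K) (hc : r * cP = cP * r) (ho : Odd (orderOf r)) :
    r = 1 := by
  classical
  set N := layerGroup K cP_lin gen_sq.2.2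
  have hsN : sP ∈ N := ⟨h.le sP_mem, cP_comm.1.symm, Layer.of_bool sP_lin layer_checks.1⟩
  have htN : tP ∈ N := ⟨h.le tP_mem, cP_comm.2.1.symm, Layer.of_bool tP_lin layer_checks.2.1⟩
  have hle : D8 ≤ N := by
    rw [D8, Subgroup.closure_le]
    rintro x (rfl | rfl) <;> assumption
  have hND : N = D8 := (Subgroup.eq_of_le_of_card_ge hle (by
    rw [card_D8]
    exact Nat.le_of_dvd (by norm_num)
      (h.card_two_dvd (h.layers_two cP_lin gen_sq.2.2) fun x hx => hx.1))).symm
  have hconj : ∀ x ∈ D8, r * x * r⁻¹ ∈ d8L := fun x hx =>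
    mem_D8.1 (by
      rw [← hND] at hx ⊢
      exact h.layers_conj cP_lin gen_sq.2.2 hr hc hx)
  set φ := MulAut.conj r with hφ
  set a := r * sP * r⁻¹
  set b := r * tP * r⁻¹
  have ha2 : a * a = 1 := by
    show φ sP * φ sP = 1
    rw [← map_mul, gen_sq.1, map_one]
  have hb2 : b * b = 1 := by
    show φ tP * φ tP = 1
    rw [← map_mul, gen_sq.2.1, map_one]
  have hab : a * b ≠ b * a := by
    show φ sP * φ tP ≠ φ tP * φ sP
    rw [← map_mul, ← map_mul]
    exact fun e => absurd (φ.injective e) (by decide +kernel)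
  obtain ⟨f1, f2, f3⟩ := eD_four a (hconj _ sP_mem) b (hconj _ tP_mem) ha2 hb2 hab
  have key : ∀ x ∈ [sP, tP, sP * cP, tP * cP], φ x = eD a b x := by
    intro x hx
    simp only [List.mem_cons, List.not_mem_nil, or_false] at hx
    unfold eD
    rcases hx with rfl | rfl | rfl | rfl
    · rw [if_pos rfl]; rfl
    · rw [if_neg (by decide +kernel), if_pos rfl]; rfl
    · rw [if_neg (by decide +kernel), if_neg (by decide +kernel), if_pos rfl, cP_comm.2.2.1, map_mul, map_mul]
      rfl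
    · rw [if_neg (by decide +kernel), if_neg (by decide +kernel), if_neg (by decide +kernel), cP_comm.2.2.2,
        map_mul, map_mul]
      rfl
  have four : ∀ x ∈ [sP, tP, sP * cP, tP * cP],
      r ^ 4 * x * (r ^ 4)⁻¹ = eD a b (eD a b (eD a b (eD a b x))) := by
    intro x hx
    rw [← key _ (f3 _ (f3 _ (f3 _ hx))), ← key _ (f3 _ (f3 _ hx)), ← key _ (f3 _ hx), ← key _ hx]
    simp only [hφ, MulAut.conj_apply, pow_succ, pow_zero, one_mul, mul_inv_rev, mul_assoc]
  have hs : r ^ 4 * sP = sP * r ^ 4 := mul_inv_eq_iff_eq_mul.1 ((four sP (by simp)).trans f1)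
  have ht : r ^ 4 * tP = tP * r ^ 4 := mul_inv_eq_iff_eq_mul.1 ((four tP (by simp)).trans f2)
  have h16 : r ^ 2 ^ 4 = 1 := by
    have e := pow_four_of_comm ((h.lin r hr).pow 4) hs ht
    rwa [← pow_mul] at e
  exact eq_one_of_odd ho h16

theorem KGroup.odd_cent_side {k : Equiv.Perm V6} (hkD : k ∈ D8) (hk : IsLin k) (hk2 : k * k = 1) (hk1 : k ≠ 1)
    (hkc : k ≠ cP) (hkL : layerB k k = true) (hcL : layerB k cP = true) (hkcc : k * cP = cP * k)
    {r : Equiv.Perm V6} (hr : r ∈ K) (hrk : r * k = k * r) (ho : Odd (orderOf r)) : r = 1 := by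
  classical
  set N := layerGroup K hk hk2
  have hkN : k ∈ N := ⟨h.le hkD, rfl, Layer.of_bool hk hkL⟩
  have hcN : cP ∈ N := ⟨h.cP_memK, hkcc.symm, Layer.of_bool cP_lin hcL⟩
  have hNK : N ≤ K := fun x hx => hx.1
  by_cases h8 : Nat.card N = 8
  · obtain ⟨g, hg, hgD⟩ := h.exists_conj (h.layers_two hk hk2) hNK
    have himg : N.map (MulAut.conj g).toMonoidHom = D8 := Subgroup.eq_of_le_of_card_ge
      (by rintro _ ⟨x, hx, rfl⟩; exact hgD x hx)
      (by rw [card_D8, Subgroup.card_map_of_injective (MulAut.conj g).injective, h8])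
    have hk' : g * k * g⁻¹ = cP := by
      have hz : ∀ x ∈ D8, g * k * g⁻¹ * x = x * (g * k * g⁻¹) := by
        intro x hx
        obtain ⟨y, hy, rfl⟩ := (himg ▸ hx : x ∈ N.map (MulAut.conj g).toMonoidHom)
        show MulAut.conj g k * MulAut.conj g y = MulAut.conj g y * MulAut.conj g k
        rw [← map_mul, ← map_mul, hy.2.1]
      refine (d8L_center _ (mem_D8.1 (hgD k hkN)) (hz _ sP_mem) (hz _ tP_mem)).resolve_left fun e => hk1 ?_
      exact conj_eq_one_iff.1 e
    have := h.odd_cent_c (r := g * r * g⁻¹) (mul_mem (mul_mem hg hr) (inv_mem hg)) (by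
      rw [← hk']
      show MulAut.conj g r * MulAut.conj g k = MulAut.conj g k * MulAut.conj g r
      rw [← map_mul, ← map_mul, hrk]) (odd_conj ho)
    exact conj_eq_one_iff.1 this
  · have hd := h.card_two_dvd (h.layers_two hk hk2) hNK
    have h4 : Nat.card N ≤ 4 := by
      have h0 := Nat.le_of_dvd (by norm_num) hd
      interval_cases hn : Nat.card N <;> omega
    set c' := r * cP * r⁻¹ with hc'
    have hc'N : c' ∈ N := h.layers_conj hk hk2 hr hrk hcN
    have hk_ne : k * cP ≠ 1 := fun e => hkc (mul_left_cancel (e.trans hk2.symm)).symm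
    have hc'1 : c' ≠ 1 := fun e => absurd (conj_eq_one_iff.1 e) (by decide +kernel)
    have hc'k : c' ≠ k := fun e => hkc (by
      have e2 : r * cP = k * r := mul_inv_eq_iff_eq_mul.1 e
      rw [← hrk] at e2
      exact (mul_left_cancel e2).symm)
    have hc'_or : c' = cP ∨ c' = k * cP := by
      by_contra hne
      push Not at hne
      let s : Finset (Equiv.Perm V6) := {1, k, cP, k * cP, c'}
      have hs : s.card = 5 := by
        have n1 : cP ≠ 1 := by decide +kernel
        have n2 : k * cP ≠ k := fun e => n1 (mul_eq_left.1 e)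
        have n3 : k * cP ≠ cP := fun e => hk1 (mul_eq_right.1 e)
        simp [s, hk1.symm, hkc, hk_ne.symm, hc'1.symm, hc'k.symm, hne.1.symm, hne.2.symm, n1.symm, n2.symm,
          n3.symm]
      have hle : s.card ≤ Nat.card N := by
        rw [← Nat.card_eq_finsetCard]
        refine Nat.card_le_card_of_injective (fun x : s => (⟨x.1, ?_⟩ : N)) fun a b e =>
          Subtype.ext (congrArg (Subtype.val (p := fun x => x ∈ N)) e)
        have hx := x.2
        simp only [s, Finset.mem_insert, Finset.mem_singleton] at hx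
        rcases hx with e | e | e | e | e <;> rw [e]
        exacts [one_mem _, hkN, hcN, mul_mem hkN hcN, hc'N]
      omega
    have hrc : r * cP = c' * r := by rw [hc', inv_mul_cancel_right]
    rcases hc'_or with e | e
    · exact h.odd_cent_c hr (by rw [hrc, e]) ho
    · rw [e] at hrc
      have h2 : r * r * cP = cP * (r * r) := by
        calc r * r * cP = r * (k * cP * r) := by rw [mul_assoc, hrc]
          _ = r * k * (cP * r) := by simp only [mul_assoc]
          _ = k * (r * cP) * r := by rw [hrk]; simp only [mul_assoc]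
          _ = k * k * cP * (r * r) := by rw [hrc]; simp only [mul_assoc]
          _ = cP * (r * r) := by rw [hk2, one_mul]
      refine eq_one_of_odd ho (n := 1) ?_
      rw [pow_one, pow_two]
      exact h.odd_cent_c (mul_mem hr hr) h2 (by rw [← pow_two]; exact odd_pow ho 2)

/-- No odd element of `K` but the identity centralises an involution. -/
theorem KGroup.odd_cent_invol {k r : Equiv.Perm V6} (hk : k ∈ K) (hk2 : k * k = 1) (hk1 : k ≠ 1) (hr : r ∈ K)
    (hrk : r * k = k * r) (ho : Odd (orderOf r)) : r = 1 := by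
  haveI : Fact (Nat.Prime 2) := ⟨Nat.prime_two⟩
  have hkQ : IsPGroup 2 (Subgroup.zpowers k) := IsPGroup.of_card (n := 1) (by
    rw [Nat.card_zpowers, orderOf_eq_prime (by rw [pow_two, hk2]) hk1, pow_one])
  obtain ⟨g, hg, hgD⟩ := h.exists_conj hkQ ((Subgroup.zpowers_le).2 hk)
  have side : ∀ {g : Equiv.Perm V6}, g ∈ K → ∀ {m : Equiv.Perm V6}, g * k * g⁻¹ = m → m = cP ∨ m = sP ∨ m = tP →
      r = 1 := by
    intro g hg m hm hcases
    have hr' := mul_mem (mul_mem hg hr) (inv_mem hg)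
    have hc' : g * r * g⁻¹ * m = m * (g * r * g⁻¹) := by
      rw [← hm]
      show MulAut.conj g r * MulAut.conj g k = MulAut.conj g k * MulAut.conj g r
      rw [← map_mul, ← map_mul, hrk]
    refine (conj_eq_one_iff (a := g)).1 ?_
    rcases hcases with rfl | rfl | rfl
    · exact h.odd_cent_c hr' hc' (odd_conj ho)
    · exact h.odd_cent_side sP_mem sP_lin gen_sq.1 (by decide +kernel) (by decide +kernel)
        layer_checks.2.2.1 layer_checks.2.2.2.1 cP_comm.1.symm hr' hc' (odd_conj ho)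
    · exact h.odd_cent_side tP_mem tP_lin gen_sq.2.1 (by decide +kernel) (by decide +kernel)
        layer_checks.2.2.2.2.1 layer_checks.2.2.2.2.2 cP_comm.2.1.symm hr' hc' (odd_conj ho)
  have hm := d8L_invol _ (mem_D8.1 (hgD k (Subgroup.mem_zpowers k)))
    (by rw [show g * k * g⁻¹ * (g * k * g⁻¹) = g * (k * k) * g⁻¹ by group, hk2, mul_one, mul_inv_cancel])
    (fun e => hk1 (conj_eq_one_iff.1 e))
  rcases hm with e | e | e | e | e
  · exact side hg e (Or.inl rfl)
  · exact side hg e (Or.inr (Or.inl rfl))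
  · exact side hg e (Or.inr (Or.inr rfl))
  · refine side (m := sP) (mul_mem (h.le tP_mem) hg) ?_ (Or.inr (Or.inl rfl))
    rw [show tP * g * k * (tP * g)⁻¹ = tP * (g * k * g⁻¹) * tP⁻¹ by group, e, cP_comm.2.2.1]
    group
    decide +kernel
  · refine side (m := tP) (mul_mem (h.le sP_mem) hg) ?_ (Or.inr (Or.inr rfl))
    rw [show sP * g * k * (sP * g)⁻¹ = sP * (g * k * g⁻¹) * sP⁻¹ by group, e, cP_comm.2.2.2]
    group
    decide +kernel

/-- **Centralisers of involutions are 2-groups.** -/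
theorem KGroup.cent_two : ∀ k ∈ K, k * k = 1 → k ≠ 1 → IsPGroup 2 ↥(K ⊓ Subgroup.centralizer {k}) := by
  intro k hk hk2 hk1 y
  obtain ⟨a, m, hm, he⟩ := Nat.exists_eq_two_pow_mul_odd (orderOf_pos (y : Equiv.Perm V6)).ne'
  refine ⟨a, Subtype.ext ?_⟩
  rw [SubmonoidClass.coe_pow, OneMemClass.coe_one]
  refine h.odd_cent_invol hk hk2 hk1 (pow_mem y.2.1 _) ?_ ?_
  · exact (Commute.pow_left (show Commute (y : Equiv.Perm V6) k from
      Subgroup.mem_centralizer_singleton_iff.1 y.2.2) _).eq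
  · rw [orderOf_pow_of_dvd (by positivity) (he ▸ Dvd.intro _ rfl), he, Nat.mul_div_cancel_left _ (by positivity)]
    exact hm

end Cfsg.Agent.M24SylQ
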