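import Cfsg.Agent.Lib.M24SylQ.Linear

/-! Finite facts about the dihedral group of the module. -/

set_option autoImplicit false
set_option maxRecDepth 100000
set_option Elab.async false

namespace Cfsg.Agent.M24SylQ

/-- The central involution. -/
def cP : Equiv.Perm V6 := sP * tP * (sP * tP)

/-- The eight elements. -/
def d8L : List (Equiv.Perm V6) := [1, sP, tP, sP * tP, tP * sP, cP, sP * cP, tP * cP]

theorem d8L_mul : ∀ a ∈ d8L, sP * a ∈ d8L ∧ tP * a ∈ d8L := fun a ha =>
  of_decide_eq_true (List.all_eq_true.1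
    (show d8L.all (fun a => decide (sP * a ∈ d8L ∧ tP * a ∈ d8L)) = true by decide +kernel) a ha)

theorem d8L_nodup : d8L.Nodup := by decide +kernel

theorem gen_sq : sP * sP = 1 ∧ tP * tP = 1 ∧ cP * cP = 1 := by decide +kernel

theorem cP_comm : cP * sP = sP * cP ∧ cP * tP = tP * cP ∧ sP * cP = tP * sP * tP ∧ tP * cP = sP * tP * sP := by
  decide +kernel

theorem d8L_center : ∀ a ∈ d8L, a * sP = sP * a → a * tP = tP * a → a = 1 ∨ a = cP := fun a ha =>
  of_decide_eq_true (List.all_eq_true.1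
    (show d8L.all (fun a => decide (a * sP = sP * a → a * tP = tP * a → a = 1 ∨ a = cP)) = true by decide +kernel)
      a ha)

theorem d8L_invol : ∀ a ∈ d8L, a * a = 1 → a ≠ 1 → a = cP ∨ a = sP ∨ a = tP ∨ a = sP * cP ∨ a = tP * cP :=
  fun a ha => of_decide_eq_true (List.all_eq_true.1
    (show d8L.all (fun a => decide
      (a * a = 1 → a ≠ 1 → a = cP ∨ a = sP ∨ a = tP ∨ a = sP * cP ∨ a = tP * cP)) = true by decide +kernel) a ha)

theorem cP_lin : IsLin cP := (sP_lin.mul tP_lin).mul (sP_lin.mul tP_lin)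

theorem layer_checks :
    layerB cP sP = true ∧ layerB cP tP = true ∧ layerB sP sP = true ∧ layerB sP cP = true ∧
      layerB tP tP = true ∧ layerB tP cP = true := by decide +kernel

/-- The images of the four reflections under the endomorphism sending `sP, tP` to `a, b`. -/
def eD (a b x : Equiv.Perm V6) : Equiv.Perm V6 :=
  if x = sP then a else if x = tP then b else if x = sP * cP then b * a * b else a * b * a

theorem eD_four : ∀ a ∈ d8L, ∀ b ∈ d8L, a * a = 1 → b * b = 1 → a * b ≠ b * a →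
    eD a b (eD a b (eD a b (eD a b sP))) = sP ∧ eD a b (eD a b (eD a b (eD a b tP))) = tP ∧
      ∀ x ∈ [sP, tP, sP * cP, tP * cP], eD a b x ∈ [sP, tP, sP * cP, tP * cP] := by
  have h : d8L.all (fun a => d8L.all fun b => decide (a * a = 1 → b * b = 1 → a * b ≠ b * a →
      eD a b (eD a b (eD a b (eD a b sP))) = sP ∧ eD a b (eD a b (eD a b (eD a b tP))) = tP ∧
        ([sP, tP, sP * cP, tP * cP].all fun x => decide (eD a b x ∈ [sP, tP, sP * cP, tP * cP])) = true)) =
      true := by decide +kernel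
  intro a ha b hb h1 h2 h3
  obtain ⟨f1, f2, f3⟩ := of_decide_eq_true (List.all_eq_true.1 (List.all_eq_true.1 h a ha) b hb) h1 h2 h3
  exact ⟨f1, f2, fun x hx => of_decide_eq_true (List.all_eq_true.1 f3 x hx)⟩

/-- A linear map commuting with both reflections, from the images of `1` and `32`. -/
def comB (a d : V6) : Bool :=
  let b := dl sP a; let c := dl tP b; let e := dl tP d; let f := dl sP e
  let r : V6 → V6 := mk6 a b c f e d
  !((List.range 6).all fun i =>
      decide (r (sP ⟨2 ^ i % 64, Nat.mod_lt _ (by decide)⟩) = sP (r ⟨2 ^ i % 64, Nat.mod_lt _ (by decide)⟩)) &&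
      decide (r (tP ⟨2 ^ i % 64, Nat.mod_lt _ (by decide)⟩) = tP (r ⟨2 ^ i % 64, Nat.mod_lt _ (by decide)⟩))) ||
    ((List.range 6).all fun i =>
        decide (r (r (r (r ⟨2 ^ i % 64, Nat.mod_lt _ (by decide)⟩))) = ⟨2 ^ i % 64, Nat.mod_lt _ (by decide)⟩)) ||
    decide (∃ v : V6, v ≠ 0 ∧ r v = 0)

theorem comB_ok : ∀ a, tP a = a → ∀ d, sP d = d → comB a d = true := by decide +kernel

theorem basis_fix : tP 1 = 1 ∧ sP 32 = 32 := by decide +kernel

theorem basis_rel : dl sP 1 = 2 ∧ dl tP 2 = 4 ∧ dl tP 32 = 16 ∧ dl sP 16 = 8 := by decide +kernel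

end Cfsg.Agent.M24SylQ
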