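import Cfsg.Agent.Lib.M24SylQ.KCent
import Cfsg.Agent.Lib.M24SylQ.KCand

/-!
Elements cycling the involutions of a four-group of the dihedral group, reduced to the candidates.
-/

set_option autoImplicit false

namespace Cfsg.Agent.M24SylQ

/-- A reflection and the other one. -/
def Typ (x o : Equiv.Perm V6) : Prop := (x = sP ∧ o = tP) ∨ (x = tP ∧ o = sP)

/-- The pair `x, cP` goes to `cP, x * cP`. -/
structure Cyc (K : Subgroup (Equiv.Perm V6)) (x r : Equiv.Perm V6) : Prop where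
  mem : r ∈ K
  hx : r * x * r⁻¹ = cP
  hc : r * cP * r⁻¹ = x * cP

/-- Simple relations of a type. -/
structure TypRel (x o : Equiv.Perm V6) : Prop where
  xx : x * x = 1
  oo : o * o = 1
  ox : o * x * o⁻¹ = x * cP
  oc : o * cP * o⁻¹ = cP
  xc : x * cP = cP * x
  x1 : x ≠ 1
  xne : x ≠ cP
  xD : x ∈ D8
  oD : o ∈ D8
  four : ∀ a ∈ d8L, a * x = x * a → a = 1 ∨ a = x ∨ a = cP ∨ a = x * cP

theorem Typ.rel {x o : Equiv.Perm V6} (h : Typ x o) : TypRel x o := by
  have f : ∀ y ∈ [sP, tP], d8L.all (fun a => decide (a * y = y * a → a = 1 ∨ a = y ∨ a = cP ∨ a = y * cP)) =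
      true := by
    intro y hy
    simp only [List.mem_cons, List.not_mem_nil, or_false] at hy
    rcases hy with rfl | rfl <;> decide +kernel
  have fs := f sP (by simp)
  have ft := f tP (by simp)
  rcases h with ⟨rfl, rfl⟩ | ⟨rfl, rfl⟩
  · exact ⟨gen_sq.1, gen_sq.2.1, by decide +kernel, by decide +kernel, cP_comm.1.symm, by decide +kernel,
      by decide +kernel, sP_mem, tP_mem, fun a ha => of_decide_eq_true (List.all_eq_true.1 fs a ha)⟩
  · exact ⟨gen_sq.2.1, gen_sq.1, by decide +kernel, by decide +kernel, cP_comm.2.1.symm, by decide +kernel,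
      by decide +kernel, tP_mem, sP_mem, fun a ha => of_decide_eq_true (List.all_eq_true.1 ft a ha)⟩

theorem noncentral : ∀ y ∈ d8L, y * y = 1 → y ≠ 1 → y ≠ cP →
    sP * y * sP⁻¹ = y * cP ∨ tP * y * tP⁻¹ = y * cP := fun y hy =>
  of_decide_eq_true (List.all_eq_true.1 (show d8L.all (fun y => decide (y * y = 1 → y ≠ 1 → y ≠ cP →
    sP * y * sP⁻¹ = y * cP ∨ tP * y * tP⁻¹ = y * cP)) = true by decide +kernel) y hy)

theorem d8L_comm_c : ∀ a ∈ d8L, a * cP = cP * a := fun a ha =>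
  of_decide_eq_true (List.all_eq_true.1
    (show d8L.all (fun a => decide (a * cP = cP * a)) = true by decide +kernel) a ha)

/-- The number of fixed vectors is bounded by the computed one. -/
theorem card_fix_le {r : Equiv.Perm V6} {f : V6 → V6} (h : ∀ v, f v = r v) :
    Nat.card {v : V6 // r v = v} ≤ fixN f := by
  classical
  set L := (List.range 64).filter fun n => decide (f (fv n) = fv n)
  have hmem : ∀ v : {v : V6 // r v = v}, (v.1 : ℕ) ∈ L.toFinset := fun v => by
    have hfv : fv (v.1 : ℕ) = v.1 := Fin.ext (Nat.mod_eq_of_lt v.1.isLt)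
    simp only [L, List.mem_toFinset, List.mem_filter, List.mem_range, decide_eq_true_eq, hfv, h, v.2]
    exact ⟨v.1.isLt, trivial⟩
  calc Nat.card {v : V6 // r v = v} ≤ Nat.card L.toFinset :=
        Nat.card_le_card_of_injective (fun v => (⟨(v.1 : ℕ), hmem v⟩ : L.toFinset)) fun a b e =>
          Subtype.ext (Fin.ext (congrArg Subtype.val e))
    _ = L.toFinset.card := Nat.card_eq_finsetCard _
    _ ≤ L.length := L.toFinset_card_le

theorem mkL_imgs {r : Equiv.Perm V6} (hr : IsLin r) (v : V6) : mkL (imgs r) v = r v := by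
  have e : ∀ a : V6, fv a.val = a := fun a => Fin.ext (Nat.mod_eq_of_lt a.isLt)
  rw [hr.eval v, mkL]
  simp [imgs, bas, e]

variable {K : Subgroup (Equiv.Perm V6)} (h : KGroup K) {x o : Equiv.Perm V6}
include h

theorem KGroup.cent_c {r : Equiv.Perm V6} (hr : r ∈ K) (hc : r * cP = cP * r) : r ∈ D8 := by
  have hle : D8 ≤ K ⊓ Subgroup.centralizer {cP} := le_inf h.le fun a ha =>
    Subgroup.mem_centralizer_singleton_iff.2 (d8L_comm_c a (mem_D8.1 ha))
  have hp := h.cent_two cP h.cP_memK gen_sq.2.2 (by decide +kernel)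
  have he := Subgroup.eq_of_le_of_card_ge hle
    (by rw [card_D8]; exact Nat.le_of_dvd (by norm_num) (h.card_two_dvd hp inf_le_left))
  rw [he]
  exact ⟨hr, Subgroup.mem_centralizer_singleton_iff.2 hc⟩

/-- The involution swapping `cP` and `x * cP`, or moving on `x`. -/
theorem KGroup.cyc_of_swap (ht : Typ x o) {w : Equiv.Perm V6} (hw : w ∈ K) (hwc : w * cP * w⁻¹ = x * cP)
    (hwx : w * x * w⁻¹ = cP ∨ w * x * w⁻¹ = x) : ∃ r, Cyc K x r := by
  rcases hwx with e | e
  · exact ⟨w, hw, e, hwc⟩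
  · have T := ht.rel
    set p := MulAut.conj (o * w) with hp
    have px : p x = x * cP := by
      show o * w * x * (o * w)⁻¹ = _
      rw [show o * w * x * (o * w)⁻¹ = o * (w * x * w⁻¹) * o⁻¹ by group, e, T.ox]
    have pc : p cP = x := by
      show o * w * cP * (o * w)⁻¹ = _
      rw [show o * w * cP * (o * w)⁻¹ = o * (w * cP * w⁻¹) * o⁻¹ by group, hwc,
        show o * (x * cP) * o⁻¹ = o * x * o⁻¹ * (o * cP * o⁻¹) by group, T.ox, T.oc, mul_assoc, gen_sq.2.2,
        mul_one]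
    have pxc : p (x * cP) = cP := by
      rw [map_mul, px, pc, T.xc, mul_assoc, T.xx, mul_one]
    refine ⟨(o * w)⁻¹, inv_mem (mul_mem (h.le T.oD) hw), ?_, ?_⟩
    · apply p.injective
      rw [hp, MulAut.conj_apply, ← mul_assoc, ← mul_assoc, mul_inv_cancel, one_mul, inv_inv, mul_assoc,
        mul_inv_cancel, mul_one]
      exact pc.symm
    · apply p.injective
      rw [pxc, hp, MulAut.conj_apply, ← mul_assoc, ← mul_assoc, mul_inv_cancel, one_mul, inv_inv, mul_assoc,
        mul_inv_cancel, mul_one]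

/-- A reflection conjugate to the central involution gives a cycling element. -/
theorem KGroup.cyc_of_conj (ht : Typ x o) {g : Equiv.Perm V6} (hg : g ∈ K) (hgx : g * x * g⁻¹ = cP) :
    ∃ r, Cyc K x r := by
  have T := ht.rel
  set y := g * cP * g⁻¹ with hy
  have hyD : y ∈ D8 := h.cent_c (mul_mem (mul_mem hg h.cP_memK) (inv_mem hg)) (by
    have e : MulAut.conj g cP * MulAut.conj g x = MulAut.conj g x * MulAut.conj g cP := by
      rw [← map_mul, ← map_mul, T.xc]
    simp only [MulAut.conj_apply, hgx] at e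
    exact e)
  have hy2 : y * y = 1 := by rw [hy, show g * cP * g⁻¹ * (g * cP * g⁻¹) = g * (cP * cP) * g⁻¹ by group,
    gen_sq.2.2, mul_one, mul_inv_cancel]
  have hy1 : y ≠ 1 := fun e => absurd (conj_eq_one_iff.1 e) (by decide +kernel)
  have hyc : y ≠ cP := fun e => T.xne (MulAut.conj g |>.injective (hgx.trans e.symm))
  obtain ⟨q, hq, hqy⟩ : ∃ q ∈ D8, q * y * q⁻¹ = y * cP :=
    (noncentral y (mem_D8.1 hyD) hy2 hy1 hyc).elim (fun e => ⟨sP, sP_mem, e⟩) fun e => ⟨tP, tP_mem, e⟩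
  have hqc : q * cP * q⁻¹ = cP := mul_inv_eq_iff_eq_mul.2 (d8L_comm_c q (mem_D8.1 hq))
  refine h.cyc_of_swap ht (mul_mem (mul_mem (inv_mem hg) (h.le hq)) hg) ?_ (Or.inr ?_)
  · rw [show g⁻¹ * q * g * cP * (g⁻¹ * q * g)⁻¹ = g⁻¹ * (q * y * q⁻¹) * g by rw [hy]; group, hqy,
      show g⁻¹ * (y * cP) * g = cP * x by rw [hy]; nth_rw 2 [← hgx]; group, T.xc]
  · rw [show g⁻¹ * q * g * x * (g⁻¹ * q * g)⁻¹ = g⁻¹ * (q * (g * x * g⁻¹) * q⁻¹) * g by group, hgx, hqc, ← hgx]
    group

/-- A cycling element of order three inverted by the other reflection. -/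
theorem KGroup.exists_cand (ht : Typ x o) {r : Equiv.Perm V6} (hr : Cyc K x r) :
    ∃ r', Cyc K x r' ∧ r' ^ 3 = 1 ∧ o * r' * o * r' = 1 := by
  have T := ht.rel
  have hrxc : r * (x * cP) * r⁻¹ = x := by
    rw [show r * (x * cP) * r⁻¹ = r * x * r⁻¹ * (r * cP * r⁻¹) by group, hr.hx, hr.hc, T.xc, ← mul_assoc,
      gen_sq.2.2, one_mul]
  have hox' : o * (x * cP) * o⁻¹ = x := by
    rw [show o * (x * cP) * o⁻¹ = o * x * o⁻¹ * (o * cP * o⁻¹) by group, T.ox, T.oc, mul_assoc, gen_sq.2.2,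
      mul_one]
  have hoinv : o⁻¹ = o := inv_eq_of_mul_eq_one_right T.oo
  set u := r * o * r⁻¹ with hu
  have ux : u * x * u⁻¹ = cP := by
    conv_lhs => rw [show x = r * (x * cP) * r⁻¹ from hrxc.symm]
    rw [show u * (r * (x * cP) * r⁻¹) * u⁻¹ = r * (o * (x * cP) * o⁻¹) * r⁻¹ by rw [hu]; group, hox', hr.hx]
  have uc : u * cP * u⁻¹ = x := by
    conv_lhs => rw [show cP = r * x * r⁻¹ from hr.hx.symm]
    rw [show u * (r * x * r⁻¹) * u⁻¹ = r * (o * x * o⁻¹) * r⁻¹ by rw [hu]; group, T.ox, hrxc]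
  set p := o * u with hp
  have pmem : p ∈ K := mul_mem (h.le T.oD) (mul_mem (mul_mem hr.mem (h.le T.oD)) (inv_mem hr.mem))
  have pc : Cyc K x p := by
    refine ⟨pmem, ?_, ?_⟩
    · rw [show p * x * p⁻¹ = o * (u * x * u⁻¹) * o⁻¹ by rw [hp]; group, ux, T.oc]
    · rw [show p * cP * p⁻¹ = o * (u * cP * u⁻¹) * o⁻¹ by rw [hp]; group, uc, T.ox]
  refine ⟨p, pc, ?_, ?_⟩
  · set φ := MulAut.conj p
    have e1 : φ x = cP := pc.hx
    have e2 : φ cP = x * cP := pc.hc
    have e3 : φ (x * cP) = x := by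
      rw [map_mul, e1, e2, T.xc, ← mul_assoc, gen_sq.2.2, one_mul]
    have hcon : ∀ z, p ^ 3 * z * (p ^ 3)⁻¹ = φ (φ (φ z)) := fun z => by
      simp only [φ, MulAut.conj_apply, pow_succ, pow_zero, one_mul, mul_inv_rev, mul_assoc]
    have cx : p ^ 3 * x = x * p ^ 3 := mul_inv_eq_iff_eq_mul.1 (by rw [hcon, e1, e2, e3])
    have cc : p ^ 3 * cP = cP * p ^ 3 := mul_inv_eq_iff_eq_mul.1 (by rw [hcon, e2, e3, e1])
    by_contra hne
    have hv := T.four _ (mem_D8.1 (h.cent_c (pow_mem pmem 3) cc)) cx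
    have hv2 : p ^ 3 * p ^ 3 = 1 := by
      rcases hv with e | e | e | e
      · exact absurd e hne
      · rw [e, T.xx]
      · rw [e, gen_sq.2.2]
      · rw [e]
        calc x * cP * (x * cP) = x * (cP * x) * cP := by simp only [mul_assoc]
          _ = 1 := by rw [← T.xc, ← mul_assoc x x, T.xx, one_mul, gen_sq.2.2]
    have h6 : (p ^ 2) ^ 3 = 1 := by rw [← pow_mul, show 2 * 3 = 3 + 3 from rfl, pow_add, hv2]
    have ho : Odd (orderOf (p ^ 2)) :=
      Odd.of_dvd_nat (show Odd 3 by decide) (orderOf_dvd_of_pow_eq_one h6)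
    have hp2 : p ^ 2 = 1 := h.odd_cent_invol (pow_mem pmem 3) hv2 hne (pow_mem pmem 2)
      ((Commute.refl p).pow_pow 2 3).eq ho
    have := congrArg (fun q => q * x * q⁻¹) hp2
    simp only [one_mul, inv_one, mul_one] at this
    rw [show p ^ 2 * x * (p ^ 2)⁻¹ = φ (φ x) by
      simp only [φ, MulAut.conj_apply, pow_succ, pow_zero, one_mul, mul_inv_rev, mul_assoc], e1, e2] at this
    exact absurd (mul_eq_left.1 this) (by decide +kernel)
  · have uu : u * u = 1 := by
      rw [hu, show r * o * r⁻¹ * (r * o * r⁻¹) = r * (o * o) * r⁻¹ by group, T.oo, mul_one, mul_inv_cancel]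
    rw [hp]
    calc o * (o * u) * o * (o * u) = (o * o) * u * (o * o) * u := by simp only [mul_assoc]
      _ = 1 := by rw [T.oo, one_mul, mul_one, uu]

/-- The candidate lists contain the images of the basis. -/
theorem KGroup.imgs_mem (ht : Typ x o) {r : Equiv.Perm V6} (hr : Cyc K x r) (h3 : r ^ 3 = 1)
    (ho : o * r * o * r = 1) : imgs r ∈ (if x = sP then sMaps else tMaps) := by
  have hl := h.lin r hr.mem
  have ex : ∀ v, r (x v) = cP (r v) := fun v => by
    rw [← Equiv.Perm.mul_apply, mul_inv_eq_iff_eq_mul.1 hr.hx, Equiv.Perm.mul_apply]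
  have ec : ∀ v, r (cP v) = x (cP (r v)) := fun v => by
    rw [← Equiv.Perm.mul_apply, mul_inv_eq_iff_eq_mul.1 hr.hc]; rfl
  have e3 : ∀ v, r (r (r v)) = v := fun v => by
    have := DFunLike.congr_fun h3 v
    rwa [pow_succ, pow_succ, pow_one] at this
  have eo : ∀ v, o (r (o (r v))) = v := fun v => DFunLike.congr_fun ho v
  have dx : ∀ v, r (dl x v) = dl cP (r v) := fun v => by rw [dl, dl, hl, ex]
  have dc : ∀ v, r (dl cP v) = dl (x * cP) (r v) := fun v => by rw [dl, dl, hl, ec]; rfl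
  obtain ⟨-, b2, b3, b4, b5, b6, b7, b8, b9, b10, b11⟩ := basis_cand
  rcases ht with ⟨rfl, rfl⟩ | ⟨rfl, rfl⟩
  · rw [if_pos rfl]
    have e : ∀ v, sCand (r 32) (r 16) (r 1) v = r v := by
      intro v
      rw [sCand, ← dx, b2, ← dc, b3, ← dc, b4, ← hl.eval]
    have hB : cycB sP tP (sCand (r 32) (r 16) (r 1)) = true := by
      simp only [cycB, e, ex, ec, e3, eo, List.all_eq_true, Bool.and_eq_true, decide_eq_true_eq]
      exact fun _ _ => ⟨⟨⟨trivial, trivial⟩, trivial⟩, trivial⟩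
    have hm := sCand_ok (r 32) (by rw [← ex, b6]) (r 16) (by rw [Equiv.Perm.mul_apply, ← ec, b7])
      (by rw [← dx, b5, ← dc, b4]) (r 1) hB
    rwa [show sCand (r 32) (r 16) (r 1) = ⇑r from funext e] at hm
  · rw [if_neg (by decide +kernel)]
    have e : ∀ v, tCand (r 1) (r 2) (r 32) v = r v := by
      intro v
      rw [tCand, ← dc, b3, ← dc, b4, ← dx, b10, ← hl.eval]
    have hB : cycB tP sP (tCand (r 1) (r 2) (r 32)) = true := by
      simp only [cycB, e, ex, ec, e3, eo, List.all_eq_true, Bool.and_eq_true, decide_eq_true_eq]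
      exact fun _ _ => ⟨⟨⟨trivial, trivial⟩, trivial⟩, trivial⟩
    have hm := tCand_ok (r 1) (by rw [← ex, b8]) (r 2) (by rw [Equiv.Perm.mul_apply, ← ec, b9])
      (by rw [← dx, b11, ← dc, b3]) (r 32) hB
    rwa [show tCand (r 1) (r 2) (r 32) = ⇑r from funext e] at hm

/-- A cycling element of order three with at most four fixed vectors. -/
theorem KGroup.exists_three (ht : Typ x o) {r : Equiv.Perm V6} (hr : Cyc K x r) :
    ∃ a ∈ K, orderOf a = 3 ∧ Cyc K x a ∧ Nat.card {v : V6 // a v = v} ≤ 4 ∧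
      imgs a ∈ (if x = sP then sMaps else tMaps) := by
  obtain ⟨a, ha, h3, ho⟩ := h.exists_cand ht hr
  have hm := h.imgs_mem ht ha h3 ho
  haveI : Fact (Nat.Prime 3) := ⟨Nat.prime_three⟩
  refine ⟨a, ha.mem, orderOf_eq_prime h3 (fun e => ht.rel.xne ?_), ha, ?_, hm⟩
  · have := ha.hx
    rwa [e, one_mul, inv_one, mul_one] at this
  · refine (card_fix_le (mkL_imgs (h.lin a ha.mem))).trans ?_
    have hmem : imgs a ∈ sMaps ++ tMaps := by
      split_ifs at hm
      · exact List.mem_append_left _ hm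
      · exact List.mem_append_right _ hm
    exact Nat.le_of_ble_eq_true (List.all_eq_true.1 fix_maps _ hmem)

end Cfsg.Agent.M24SylQ
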