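import Cfsg.Agent.Lib.M24SylQ.KTypes

/-!
Fixed vectors and orders of elements of odd order.
-/

set_option autoImplicit false
set_option linter.style.haveILetI false

namespace Cfsg.Agent.M24SylQ

/-- A translation. -/
def trP (a : V6) : Equiv.Perm V6 :=
  ⟨fun v => vx v a, fun v => vx v a, fun v => vx_vx v a, fun v => vx_vx v a⟩

theorem trP_mul (a b : V6) : trP a * trP b = trP (vx b a) :=
  Equiv.ext fun v => vx_assoc v b a

/-- The number of fixed vectors of a linear map is a power of two. -/
theorem card_fix_pow_two {r : Equiv.Perm V6} (hr : IsLin r) :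
    ∃ n, Nat.card {v : V6 // r v = v} = 2 ^ n := by
  haveI : Fact (Nat.Prime 2) := ⟨Nat.prime_two⟩
  let T : Subgroup (Equiv.Perm V6) :=
    { carrier := {s | ∃ a, r a = a ∧ s = trP a}
      mul_mem' := by
        rintro _ _ ⟨a, ha, rfl⟩ ⟨b, hb, rfl⟩
        exact ⟨vx b a, by rw [hr, ha, hb], trP_mul a b⟩
      one_mem' := ⟨0, hr.map_zero, Equiv.ext fun v => (vx_zero v).symm⟩
      inv_mem' := by
        rintro _ ⟨a, ha, rfl⟩
        exact ⟨a, ha, Equiv.ext fun v => rfl⟩ }
  have hT : IsPGroup 2 T := by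
    rintro ⟨_, a, -, rfl⟩
    exact ⟨1, Subtype.ext (by
      show trP a ^ 2 ^ 1 = 1
      rw [pow_one, pow_two, trP_mul, vx_self]
      exact Equiv.ext fun v => vx_zero v)⟩
  obtain ⟨n, hn⟩ := IsPGroup.iff_card.1 hT
  refine ⟨n, hn ▸ Nat.card_congr (Equiv.ofBijective (fun v => (⟨trP v.1, v.1, v.2, rfl⟩ : T)) ⟨?_, ?_⟩)⟩
  · intro v w e
    have := DFunLike.congr_fun (congrArg Subtype.val e) (0 : V6)
    simp only [trP, Equiv.coe_fn_mk, zero_vx] at this
    exact Subtype.ext this
  · rintro ⟨_, a, ha, rfl⟩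
    exact ⟨⟨a, ha⟩, rfl⟩

/-- A power of a conjugate fixes at least as many vectors. -/
theorem card_fix_conj {a b g : Equiv.Perm V6} {i : ℤ} (h : b = g * a ^ i * g⁻¹) :
    Nat.card {v : V6 // a v = v} ≤ Nat.card {v : V6 // b v = v} := by
  refine Nat.card_le_card_of_injective (fun v => ⟨g v.1, ?_⟩) fun v w e =>
    Subtype.ext (g.injective (congrArg Subtype.val e))
  rw [h, Equiv.Perm.mul_apply, Equiv.Perm.mul_apply, Equiv.Perm.inv_def, Equiv.symm_apply_apply,
    Equiv.Perm.zpow_apply_eq_self_of_apply_eq_self v.2 i]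

variable {K : Subgroup (Equiv.Perm V6)} (h : KGroup K)
include h

omit h in
/-- Elements of prime order `p` with `p` exactly dividing the order fix equally many vectors. -/
theorem fix_le_of_prime {p : ℕ} (hp : p.Prime) {m : ℕ} (hm : Nat.card K = p * m) (hm' : ¬ p ∣ m)
    {a b : Equiv.Perm V6} (ha : a ∈ K) (hb : b ∈ K) (hao : orderOf a = p) (hbo : orderOf b = p) :
    Nat.card {v : V6 // b v = v} ≤ Nat.card {v : V6 // a v = v} := by
  haveI : Fact p.Prime := ⟨hp⟩
  have hf : (Nat.card K).factorization p = 1 := by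
    rw [hm, Nat.factorization_mul hp.pos.ne' (fun e => hm' (by rw [e]; exact dvd_zero p)), Finsupp.add_apply,
      hp.factorization_self, Nat.factorization_eq_zero_of_not_dvd hm']
  have hz : ∀ {c : Equiv.Perm V6} (hc : c ∈ K), orderOf c = p →
      Nat.card (Subgroup.zpowers (⟨c, hc⟩ : K)) = p ^ (Nat.card K).factorization p := by
    intro c hc hco
    rw [Nat.card_zpowers, Subgroup.orderOf_mk, hco, hf, pow_one]
  obtain ⟨g, hg⟩ := MulAction.exists_smul_eq K (Sylow.ofCard _ (hz hb hbo)) (Sylow.ofCard _ (hz ha hao))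
  have hmem : (⟨a, ha⟩ : K) ∈ ((Sylow.ofCard _ (hz ha hao) : Sylow p K) : Subgroup K) := Subgroup.mem_zpowers _
  rw [← hg, Sylow.smul_def] at hmem
  obtain ⟨y, hy, e⟩ := hmem
  obtain ⟨i, hi⟩ := Subgroup.mem_zpowers_iff.1 hy
  rw [← hi] at e
  exact card_fix_conj (g := (g : Equiv.Perm V6)) (i := i) (congrArg Subtype.val e).symm

/-- An element of prime odd order fixes at most four vectors. -/
theorem KGroup.fix_prime {r : Equiv.Perm V6} (hr : r ∈ K) (hp : (orderOf r).Prime) (ho : Odd (orderOf r)) :
    Nat.card {v : V6 // r v = v} ≤ 4 := by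
  have hd : orderOf r ∣ Nat.card K := Subgroup.orderOf_dvd_natCard K hr
  haveI : Fact (orderOf r).Prime := ⟨hp⟩
  obtain ⟨n, hn⟩ := card_fix_pow_two (h.lin r hr)
  have five : orderOf r = 5 → Nat.card {v : V6 // r v = v} ≤ 4 := by
    intro h5
    have hP : IsPGroup (orderOf r) (Subgroup.zpowers r) := IsPGroup.of_card (n := 1) (by
      rw [Nat.card_zpowers, pow_one])
    letI : MulAction (Subgroup.zpowers r) V6 := MulAction.compHom V6 (Subgroup.zpowers r).subtype
    have hmod := hP.card_modEq_card_fixedPoints V6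
    rw [Nat.card_congr (Equiv.subtypeEquivRight (p := fun v => v ∈ MulAction.fixedPoints (Subgroup.zpowers r) V6)
      (q := fun v => r v = v) fun v => ⟨fun hv => hv ⟨r, Subgroup.mem_zpowers r⟩, fun hv z => by
        obtain ⟨i, hi⟩ := Subgroup.mem_zpowers_iff.1 z.2
        show (z : Equiv.Perm V6) v = v
        rw [← hi, Equiv.Perm.zpow_apply_eq_self_of_apply_eq_self hv]⟩), Nat.card_fin, hn, h5, Nat.ModEq] at hmod
    have hle : 2 ^ n ≤ 64 := hn ▸ (Nat.card_le_card_of_injective _ Subtype.val_injective).trans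
      (Nat.card_fin 64).le
    have hn6 : n ≤ 6 := (Nat.pow_le_pow_iff_right (by norm_num)).1 hle
    rw [hn]
    interval_cases n <;> first | (norm_num; done) | (norm_num at hmod; done) | skip
    have hall : ∀ v, r v = v := fun v => by
      by_contra hv
      have hlt : Nat.card {v : V6 // r v = v} < Nat.card V6 :=
        Finite.card_subtype_lt hv
      rw [hn, Nat.card_fin] at hlt
      omega
    rw [show r = 1 from Equiv.ext hall, orderOf_one] at h5
    norm_num at h5
  rcases h.types with e | ⟨e | e, a, ha, hao, haf⟩ | ⟨e, a, ha, w, hw, hao, haf, hwo, hwf⟩ <;> rw [e] at hd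
  · rcases hp.dvd_mul.1 (show orderOf r ∣ 2 * (2 * 2) from hd) with hd | hd
    · exact absurd ((Nat.prime_dvd_prime_iff_eq hp Nat.prime_two).1 hd ▸ ho) (by decide)
    · exact absurd ((Nat.prime_dvd_prime_iff_eq hp Nat.prime_two).1
        ((hp.dvd_mul.1 hd).elim id id) ▸ ho) (by decide)
  · have h3 : orderOf r = 3 := by
      have := Nat.le_of_dvd (by norm_num) hd
      rw [Nat.odd_iff] at ho
      interval_cases hh : orderOf r <;> norm_num at *
    exact (fix_le_of_prime Nat.prime_three (m := 8) (by rw [e]) (by norm_num) ha hr hao h3).trans haf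
  · have h35 : orderOf r = 3 ∨ orderOf r = 5 := by
      rcases hp.dvd_mul.1 (show orderOf r ∣ 8 * (3 * 5) from hd) with hd | hd
      · exact absurd ((Nat.prime_dvd_prime_iff_eq hp Nat.prime_two).1
          (hp.dvd_of_dvd_pow (show orderOf r ∣ 2 ^ 3 from hd)) ▸ ho) (by decide)
      · exact (hp.dvd_mul.1 hd).imp ((Nat.prime_dvd_prime_iff_eq hp Nat.prime_three).1)
          ((Nat.prime_dvd_prime_iff_eq hp (by norm_num)).1)
    rcases h35 with h3 | h5
    · exact (fix_le_of_prime Nat.prime_three (m := 40) (by rw [e]) (by norm_num) ha hr hao h3).trans haf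
    · exact five h5
  · have h37 : orderOf r = 3 ∨ orderOf r = 7 := by
      rcases hp.dvd_mul.1 (show orderOf r ∣ 8 * (3 * 7) from hd) with hd | hd
      · exact absurd ((Nat.prime_dvd_prime_iff_eq hp Nat.prime_two).1
          (hp.dvd_of_dvd_pow (show orderOf r ∣ 2 ^ 3 from hd)) ▸ ho) (by decide)
      · exact (hp.dvd_mul.1 hd).imp ((Nat.prime_dvd_prime_iff_eq hp Nat.prime_three).1)
          ((Nat.prime_dvd_prime_iff_eq hp (by norm_num)).1)
    rcases h37 with h3 | h7
    · exact (fix_le_of_prime Nat.prime_three (m := 56) (by rw [e]) (by norm_num) ha hr hao h3).trans haf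
    · exact (fix_le_of_prime (p := 7) (by norm_num) (m := 24) (by rw [e]) (by norm_num) hw hr hwo h7).trans hwf

/-- **An element of odd order fixes at most a plane.** -/
theorem KGroup.fix_le_four : ∀ r ∈ K, Odd (orderOf r) → r ≠ 1 → Nat.card {v : V6 // r v = v} ≤ 4 := by
  intro r hr ho hr1
  set p := (orderOf r).minFac with hp
  have hpp : p.Prime := Nat.minFac_prime fun e => hr1 (orderOf_eq_one_iff.1 e)
  have hq : orderOf (r ^ (orderOf r / p)) = p :=
    orderOf_pow_orderOf_div (orderOf_pos r).ne' (Nat.minFac_dvd _)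
  refine le_trans ?_ (h.fix_prime (pow_mem hr (orderOf r / p)) (by rw [hq]; exact hpp)
    (by rw [hq]; exact ho.of_dvd_nat (Nat.minFac_dvd _)))
  exact card_fix_conj (g := 1) (i := ((orderOf r / p : ℕ) : ℤ)) (by rw [zpow_natCast]; simp)

/-- **No odd subgroup has order divisible by 15 or 31.** -/
theorem KGroup.odd_orbit : ∀ R : Subgroup (Equiv.Perm V6), R ≤ K → Odd (Nat.card R) →
    ¬ 15 ∣ Nat.card R ∧ ¬ 31 ∣ Nat.card R := by
  intro R hR ho
  have hd := Subgroup.card_dvd_of_le hR
  have key : Nat.card K = 8 ∨ Nat.card K = 24 ∨ Nat.card K = 120 ∨ Nat.card K = 168 := by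
    rcases h.types with e | ⟨e | e, -⟩ | ⟨e, -⟩ <;> omega
  refine ⟨fun h15 => ?_, fun h31 => ?_⟩
  · have hK : Nat.card K = 120 := by
      have := h15.trans hd
      rcases key with e | e | e | e <;> first | exact e | (rw [e] at this; norm_num at this)
    haveI : Fact (Nat.Prime 5) := ⟨by norm_num⟩
    rw [hK] at hd
    have hR15 : Nat.card R = 15 := by
      obtain ⟨k, hk⟩ := h15
      rw [hk, show 120 = 15 * 8 from rfl] at hd
      have h8 := Nat.dvd_of_mul_dvd_mul_left (by norm_num) hd
      rw [hk, Nat.odd_mul] at ho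
      have := Nat.le_of_dvd (by norm_num) h8
      have hk2 := Nat.odd_iff.1 ho.2
      interval_cases k <;> omega
    obtain ⟨x, hx⟩ := exists_prime_orderOf_dvd_card' 5 (G := R) (by rw [hR15]; norm_num)
    have hfR : (Nat.card R).factorization 5 = 1 := by
      rw [hR15, show (15 : ℕ) = 5 * 3 from rfl, Nat.factorization_mul (by norm_num) (by norm_num),
        Finsupp.add_apply, Nat.Prime.factorization_self (by norm_num),
        Nat.factorization_eq_zero_of_not_dvd (by norm_num)]
    let Q : Sylow 5 R := Sylow.ofCard (Subgroup.zpowers x) (by rw [Nat.card_zpowers, hx, hfR, pow_one])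
    have hQ5 : Nat.card (Q : Subgroup R) = 5 := by
      show Nat.card (Subgroup.zpowers x) = 5
      rw [Nat.card_zpowers, hx]
    have hQ1 : Nat.card (Sylow 5 R) = 1 := by
      have h1 : Nat.card (Sylow 5 R) ∣ 3 := by
        have := Q.card_dvd_index
        have e := (Q : Subgroup R).card_mul_index
        rw [hQ5, hR15] at e
        rwa [show (Q : Subgroup R).index = 3 by omega] at this
      have h2 := card_sylow_modEq_one 5 R
      rcases (Nat.dvd_prime Nat.prime_three).1 h1 with e | e
      · exact e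
      · rw [e] at h2; exact absurd h2 (by decide)
    haveI : Subsingleton (Sylow 5 R) := (Nat.card_eq_one_iff_unique.1 hQ1).1
    have hQn := Q.normal_of_subsingleton
    let x' : K := ⟨(x : Equiv.Perm V6), hR x.2⟩
    have hx' : orderOf x' = 5 := by rw [Subgroup.orderOf_mk, Subgroup.orderOf_coe, hx]
    let P : Sylow 5 K := Sylow.ofCard (Subgroup.zpowers x') (by
      rw [Nat.card_zpowers, hx', hK, show (120 : ℕ) = 5 * 24 from rfl,
        Nat.factorization_mul (by norm_num) (by norm_num), Finsupp.add_apply,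
        Nat.Prime.factorization_self (by norm_num), Nat.factorization_eq_zero_of_not_dvd (by norm_num), pow_one])
    have hRN : R.subgroupOf K ≤ Subgroup.normalizer ((P : Subgroup K) : Set K) := by
      intro y hy
      refine Subgroup.mem_normalizer_fintype fun z hz => ?_
      obtain ⟨i, rfl⟩ := Subgroup.mem_zpowers_iff.1 hz
      have hm := hQn.conj_mem (x ^ i) (Subgroup.zpow_mem _ (Subgroup.mem_zpowers x) i) ⟨(y : Equiv.Perm V6), hy⟩
      obtain ⟨j, hj⟩ := Subgroup.mem_zpowers_iff.1 hm
      refine Subgroup.mem_zpowers_iff.2 ⟨j, Subtype.ext ?_⟩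
      have := congrArg Subtype.val hj
      simpa [x'] using this
    have hNd : 15 ∣ Nat.card (Subgroup.normalizer ((P : Subgroup K) : Set K)) := by
      have := Subgroup.card_dvd_of_le hRN
      rwa [Nat.card_congr (Subgroup.subgroupOfEquivOfLe hR).toEquiv, hR15] at this
    have hidx : (Subgroup.normalizer ((P : Subgroup K) : Set K)).index = 1 := by
      have hn1 := card_sylow_modEq_one 5 K
      rw [Sylow.card_eq_index_normalizer P] at hn1
      have hmul := (Subgroup.normalizer ((P : Subgroup K) : Set K)).card_mul_index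
      obtain ⟨k, hk⟩ := hNd
      rw [hk, hK, mul_assoc] at hmul
      have hki : k * (Subgroup.normalizer ((P : Subgroup K) : Set K)).index = 8 := by omega
      have hle := Nat.le_of_dvd (by norm_num) (Dvd.intro_left _ hki)
      rw [Nat.ModEq] at hn1
      interval_cases hI : (Subgroup.normalizer ((P : Subgroup K) : Set K)).index <;> first | rfl | omega
    rw [Subgroup.index_eq_one, Subgroup.normalizer_eq_top_iff] at hidx
    have hbot := h.odd_bot (N := (P : Subgroup K).map K.subtype) (Subgroup.map_subtype_le _)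
      (by
        rw [Subgroup.card_map_of_injective K.subtype_injective]
        show Odd (Nat.card (Subgroup.zpowers x'))
        rw [Nat.card_zpowers, hx']; decide)
      (fun n hn => by
        obtain ⟨z, hz, rfl⟩ := hn
        exact ⟨_, hidx.conj_mem z hz ⟨sP, h.le sP_mem⟩, rfl⟩)
      (fun n hn => by
        obtain ⟨z, hz, rfl⟩ := hn
        exact ⟨_, hidx.conj_mem z hz ⟨cP, h.cP_memK⟩, rfl⟩)
    have : (x' : Equiv.Perm V6) = 1 := (Subgroup.eq_bot_iff_forall _).1 hbot _ ⟨x', Subgroup.mem_zpowers x', rfl⟩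
    rw [Subtype.ext this (a2 := (1 : K)), orderOf_one] at hx'
    norm_num at hx'
  · have := h31.trans hd
    rcases key with e | e | e | e <;> (rw [e] at this; norm_num at this)

end Cfsg.Agent.M24SylQ
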