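import Cfsg.Agent.Lib.M24SylQ.KCycle
import Cfsg.Agent.Lib.Involutions.CentralizerD8
import Cfsg.Agent.Lib.BSW.Small
import Mathlib.GroupTheory.Transfer

/-!
The possible orders of the group of linear maps: 8, 24, 120 and 168.
-/

set_option autoImplicit false
set_option linter.style.haveILetI false

namespace Cfsg.Agent.M24SylQ

theorem inverts_fpf {G : Type} [Group G] [Finite G] (C : Subgroup G) {u : G} (hu : u * u = 1)
    (hn : ∀ c ∈ C, u * c * u⁻¹ ∈ C) (hfix : ∀ c ∈ C, u * c = c * u → c = 1) :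
    ∀ c ∈ C, u * c * u⁻¹ = c⁻¹ := by
  haveI := Fintype.ofFinite G
  exact BSW.inverts_of_fpf C hu hn hfix

/-- The dihedral group of order eight in coordinates. -/
def dihFun : DihedralGroup 4 → Equiv.Perm V6
  | .r i => (sP * tP) ^ i.val
  | .sr i => sP * (sP * tP) ^ i.val

theorem dih_checks : (∀ a b : DihedralGroup 4, dihFun (a * b) = dihFun a * dihFun b) ∧
    (∀ a b : DihedralGroup 4, dihFun a = dihFun b → a = b) ∧ ∀ a : DihedralGroup 4, dihFun a ∈ d8L := by
  decide +kernel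

theorem d8L_sub_checks :
    (∀ a ∈ d8L, a * a = 1 ∨ a * a = cP) ∧ sP ≠ 1 ∧ tP ≠ 1 ∧ cP ≠ 1 ∧ sP ≠ cP ∧ tP ≠ cP ∧
      [1, cP, sP, sP * cP].Nodup ∧ [1, cP, tP, tP * cP].Nodup ∧ [1, cP, sP * tP, tP * sP].Nodup :=
  ⟨fun a ha => of_decide_eq_true (List.all_eq_true.1
    (show d8L.all (fun a => decide (a * a = 1 ∨ a * a = cP)) = true by decide +kernel) a ha), by decide +kernel⟩

variable {K : Subgroup (Equiv.Perm V6)} (h : KGroup K)
include h

/-- An odd subgroup normalised by `sP` and `cP` is trivial. -/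
theorem KGroup.odd_bot {N : Subgroup (Equiv.Perm V6)} (hN : N ≤ K) (ho : Odd (Nat.card N))
    (hs : ∀ n ∈ N, sP * n * sP⁻¹ ∈ N) (hc : ∀ n ∈ N, cP * n * cP⁻¹ ∈ N) : N = ⊥ := by
  have hodd : ∀ n ∈ N, Odd (orderOf n) := fun n hn => ho.of_dvd_nat (Subgroup.orderOf_dvd_natCard N hn)
  have fpf : ∀ {u : Equiv.Perm V6}, u ∈ D8 → u * u = 1 → u ≠ 1 → ∀ n ∈ N, u * n = n * u → n = 1 :=
    fun hu hu2 hu1 n hn e => h.odd_cent_invol (h.le hu) hu2 hu1 (hN hn) e.symm (hodd n hn)
  have is := inverts_fpf N gen_sq.1 hs (fpf sP_mem gen_sq.1 d8L_sub_checks.2.1)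
  have ic := inverts_fpf N gen_sq.2.2 hc (fpf cP_mem gen_sq.2.2 d8L_sub_checks.2.2.2.1)
  refine (Subgroup.eq_bot_iff_forall N).2 fun n hn => fpf (mul_mem sP_mem cP_mem) (by decide +kernel)
    (by decide +kernel) n hn ?_
  rw [← mul_inv_eq_iff_eq_mul, show sP * cP * n * (sP * cP)⁻¹ = sP * (cP * n * cP⁻¹) * sP⁻¹ by group, ic n hn,
    is _ (inv_mem hn), inv_inv]

/-- The case without subgroups of index two. -/
theorem KGroup.types_perfect (hno : ∀ H : Subgroup K, H.index ≠ 2) :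
    Nat.card K = 168 ∧ ∃ a ∈ K, ∃ w ∈ K, orderOf a = 3 ∧ Nat.card {v : V6 // a v = v} ≤ 4 ∧ orderOf w = 7 ∧
      Nat.card {v : V6 // w v = v} ≤ 4 := by
  have hc1 : cP ≠ 1 := d8L_sub_checks.2.2.2.1
  let t : K := ⟨cP, h.cP_memK⟩
  have ht : orderOf t = 2 := by
    rw [Subgroup.orderOf_mk]
    exact orderOf_eq_prime (hp := ⟨Nat.prime_two⟩) (by rw [pow_two, gen_sq.2.2]) hc1
  let f : DihedralGroup 4 →* Subgroup.centralizer ({t} : Set K) := MonoidHom.mk'
    (fun a => ⟨⟨dihFun a, h.le (mem_D8.2 (dih_checks.2.2 a))⟩, Subgroup.mem_centralizer_singleton_iff.2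
      (Subtype.ext (d8L_comm_c _ (dih_checks.2.2 a)))⟩)
    fun a b => Subtype.ext (Subtype.ext (dih_checks.1 a b))
  have hf : Function.Bijective f := by
    have hinj : Function.Injective f := fun a b e =>
      dih_checks.2.1 a b (congrArg (fun z : Subgroup.centralizer ({t} : Set K) => ((z : K) : Equiv.Perm V6)) e)
    refine hinj.bijective_of_nat_card_le ?_
    rw [DihedralGroup.nat_card]
    let g : Subgroup.centralizer ({t} : Set K) → D8 := fun r => ⟨((r : K) : Equiv.Perm V6),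
      h.cent_c (r : K).2 (congrArg Subtype.val (Subgroup.mem_centralizer_singleton_iff.1 r.2))⟩
    exact (Nat.card_le_card_of_injective g fun a b e =>
      Subtype.ext (Subtype.ext (congrArg (fun z : D8 => (z : Equiv.Perm V6)) e))).trans card_D8.le
  have S : CentD8.Setup K := CentD8.Setup.of_centralizer t ht (MulEquiv.ofBijective f hf).symm hno
  have conjc : ∀ {x : Equiv.Perm V6}, x ∈ D8 → x * x = 1 → x ≠ 1 → ∃ g ∈ K, g * x * g⁻¹ = cP := by
    intro x hx hx2 hx1
    obtain ⟨g, hg⟩ := isConj_iff.1 (S.conj ⟨x, h.le hx⟩ t (by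
      rw [Subgroup.orderOf_mk]
      exact orderOf_eq_prime (hp := ⟨Nat.prime_two⟩) (by rw [pow_two, hx2]) hx1) ht)
    exact ⟨g, g.2, congrArg Subtype.val hg⟩
  obtain ⟨g, hg, hgs⟩ := conjc sP_mem gen_sq.1 d8L_sub_checks.2.1
  obtain ⟨g', hg', hgt⟩ := conjc tP_mem gen_sq.2.1 d8L_sub_checks.2.2.1
  obtain ⟨r, hr⟩ := h.cyc_of_conj (o := tP) (Or.inl ⟨rfl, rfl⟩) hg hgs
  obtain ⟨r', hr'⟩ := h.cyc_of_conj (o := sP) (Or.inr ⟨rfl, rfl⟩) hg' hgt
  obtain ⟨a, haK, ha3, -, haf, ham⟩ := h.exists_three (o := tP) (Or.inl ⟨rfl, rfl⟩) hr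
  obtain ⟨b, hbK, -, -, -, hbm⟩ := h.exists_three (o := sP) (Or.inr ⟨rfl, rfl⟩) hr'
  rw [if_pos rfl] at ham
  rw [if_neg (by decide +kernel : ¬ tP = sP)] at hbm
  have hp := List.all_eq_true.1 (List.all_eq_true.1 pair_ok _ ham) _ hbm
  have hw : ∀ v, mkL (imgs a) (mkL (imgs b) (mkL (imgs b) v)) = (a * b * b) v := fun v => by
    rw [mkL_imgs (h.lin a haK), mkL_imgs (h.lin b hbK), mkL_imgs (h.lin b hbK)]; rfl
  simp only [pairB, hw, Bool.and_eq_true, Bool.not_eq_true', List.all_eq_true, decide_eq_true_eq] at hp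
  set w := a * b * b with hwdef
  have hwK : w ∈ K := mul_mem (mul_mem haK hbK) hbK
  have hwl := h.lin w hwK
  have h7 : w ^ 7 = 1 := by
    have hb : ∀ e ∈ bas, (w ^ 7) e = (1 : Equiv.Perm V6) e := fun e he => by
      simp only [pow_succ, pow_zero, one_mul, Equiv.Perm.mul_apply, Equiv.Perm.one_apply]
      exact hp.1.1 e he
    exact (hwl.pow 7).ext6 IsLin.one (hb 1 (by simp [bas])) (hb 2 (by simp [bas])) (hb 4 (by simp [bas]))
      (hb 8 (by simp [bas])) (hb 16 (by simp [bas])) (hb 32 (by simp [bas]))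
  have hw1 : w ≠ 1 := fun e => by
    have hb := hp.1.2
    rw [List.all_eq_false] at hb
    obtain ⟨x, -, hx⟩ := hb
    rw [e] at hx
    simp at hx
  have ho : orderOf w = 7 := orderOf_eq_prime (hp := ⟨by norm_num⟩) h7 hw1
  have hd : 7 ∣ Nat.card K := ho ▸ Subgroup.orderOf_dvd_natCard K hwK
  haveI := Fintype.ofFinite K
  refine ⟨(CentD8.card_eq S).resolve_right fun e => ?_, a, haK, w, hwK, ha3, haf, ho,
    (card_fix_le (f := fun v => w v) fun _ => rfl).trans ?_⟩
  · rw [e] at hd; norm_num at hd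
  · exact Nat.le_of_ble_eq_true hp.2

/-- The case of a subgroup of index two. -/
theorem KGroup.types_index_two {H : Subgroup K} (hH : H.index = 2) :
    Nat.card K = 8 ∨ ((Nat.card K = 24 ∨ Nat.card K = 120) ∧ ∃ a ∈ K, orderOf a = 3 ∧
      Nat.card {v : V6 // a v = v} ≤ 4) := by
  classical
  haveI : Fact (Nat.Prime 2) := ⟨Nat.prime_two⟩
  haveI hHn := Subgroup.normal_of_index_eq_two hH
  set K1 := H.map K.subtype with hK1
  have hle : K1 ≤ K := Subgroup.map_subtype_le H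
  have hmem : ∀ {g} (hg : g ∈ K), g ∈ K1 ↔ (⟨g, hg⟩ : K) ∈ H := fun {g} hg => by
    refine ⟨fun ⟨z, hz, e⟩ => ?_, fun hgH => ⟨_, hgH, rfl⟩⟩
    have : z = ⟨g, hg⟩ := Subtype.ext e
    exact this ▸ hz
  have hnorm : ∀ k ∈ K, ∀ n ∈ K1, k * n * k⁻¹ ∈ K1 := fun k hk n hn => by
    rw [hmem (mul_mem (mul_mem hk (hle hn)) (inv_mem hk))]
    exact hHn.conj_mem _ ((hmem (hle hn)).1 hn) ⟨k, hk⟩
  have hsq : ∀ k ∈ K, k * k ∈ K1 := fun k hk => by
    rw [hmem (mul_mem hk hk)]; exact Subgroup.mul_self_mem_of_index_two hH ⟨k, hk⟩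
  have hmul : ∀ {a b}, a ∈ K → b ∈ K → (a * b ∈ K1 ↔ (a ∈ K1 ↔ b ∈ K1)) := fun {a b} ha hb => by
    rw [hmem (mul_mem ha hb), hmem ha, hmem hb]
    exact Subgroup.mul_mem_iff_of_index_two hH (a := ⟨a, ha⟩) (b := ⟨b, hb⟩)
  have hcard : Nat.card K = 2 * Nat.card K1 := by
    rw [hK1, Subgroup.card_map_of_injective K.subtype_injective, ← H.card_mul_index, hH, mul_comm]
  set P := D8 ⊓ K1 with hP
  have hPp : IsPGroup 2 P := (IsPGroup.of_card (n := 3) card_D8).to_le inf_le_left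
  have hcP : cP ∈ P := ⟨cP_mem, hsq _ (mul_mem (h.le sP_mem) (h.le tP_mem))⟩
  obtain ⟨m, hm⟩ : ∃ m, Nat.card K = 8 * m ∧ ¬ 2 ∣ m := ⟨_, h.card_eq, h.odd⟩
  have hPle : Nat.card P ≤ 4 := by
    have h1 : Nat.card P ∣ 4 * m := by
      have := Subgroup.card_dvd_of_le (inf_le_right : P ≤ K1)
      rwa [show Nat.card K1 = 4 * m by omega] at this
    obtain ⟨n, hn⟩ := IsPGroup.iff_card.1 hPp
    refine Nat.le_of_dvd (by norm_num) (Nat.Coprime.dvd_of_dvd_mul_right ?_ h1)
    rw [hn]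
    exact Nat.Coprime.pow_left n ((Nat.prime_two.coprime_iff_not_dvd).2 hm.2)
  have hP4 : Nat.card P = 4 := by
    refine le_antisymm hPle ?_
    have sub : ∀ l : List (Equiv.Perm V6), l.Nodup → l.length = 4 → (∀ y ∈ l, y ∈ P) → 4 ≤ Nat.card P := by
      intro l hl hlen hy
      rw [← hlen, ← List.toFinset_card_of_nodup hl, ← Nat.card_eq_finsetCard]
      exact Nat.card_le_card_of_injective (fun y => (⟨y.1, hy _ (List.mem_toFinset.1 y.2)⟩ : P))
        fun a b e => Subtype.ext (congrArg (Subtype.val (p := fun z => z ∈ P)) e)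
    obtain ⟨-, -, -, -, -, -, n1, n2, n3⟩ := d8L_sub_checks
    by_cases hs : sP ∈ K1
    · refine sub _ n1 rfl ?_
      simp only [List.mem_cons, List.not_mem_nil, or_false]
      rintro y (rfl | rfl | rfl | rfl)
      exacts [one_mem _, hcP, ⟨sP_mem, hs⟩, mul_mem (show sP ∈ P from ⟨sP_mem, hs⟩) hcP]
    by_cases ht : tP ∈ K1
    · refine sub _ n2 rfl ?_
      simp only [List.mem_cons, List.not_mem_nil, or_false]
      rintro y (rfl | rfl | rfl | rfl)
      exacts [one_mem _, hcP, ⟨tP_mem, ht⟩, mul_mem (show tP ∈ P from ⟨tP_mem, ht⟩) hcP]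
    · refine sub _ n3 rfl ?_
      simp only [List.mem_cons, List.not_mem_nil, or_false]
      rintro y (rfl | rfl | rfl | rfl)
      exacts [one_mem _, hcP,
        ⟨mul_mem sP_mem tP_mem, (hmul (h.le sP_mem) (h.le tP_mem)).2 ⟨fun e => absurd e hs, fun e => absurd e ht⟩⟩,
        ⟨mul_mem tP_mem sP_mem, (hmul (h.le tP_mem) (h.le sP_mem)).2 ⟨fun e => absurd e ht, fun e => absurd e hs⟩⟩]
  have hPcomm : ∀ a ∈ P, ∀ b ∈ P, a * b = b * a := fun a ha b hb => congrArg Subtype.val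
    (IsPGroup.commutative_of_card_eq_prime_sq (p := 2) (G := P) (by rw [hP4]; rfl) ⟨a, ha⟩ ⟨b, hb⟩)
  let P' : Sylow 2 K1 := Sylow.ofCard (P.subgroupOf K1) (by
    rw [Nat.card_congr (Subgroup.subgroupOfEquivOfLe inf_le_right).toEquiv, hP4,
      show Nat.card K1 = 4 * m by omega, Nat.factorization_mul (by norm_num) (by omega), Finsupp.add_apply,
      show (4 : ℕ) = 2 ^ 2 from rfl, Nat.factorization_pow_self Nat.prime_two,
      Nat.factorization_eq_zero_of_not_dvd hm.2])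
  by_cases hfix : ∀ g : K1, (∀ p ∈ P, (g : Equiv.Perm V6) * p * (g : Equiv.Perm V6)⁻¹ ∈ P) →
      (g : Equiv.Perm V6) * cP * (g : Equiv.Perm V6)⁻¹ = cP
  · left
    have hN : Subgroup.normalizer (P' : Subgroup K1) ≤ Subgroup.centralizer ((P' : Subgroup K1) : Set K1) := by
      intro g hg
      rw [Subgroup.mem_centralizer_iff]
      intro p hp
      have hgP : (g : Equiv.Perm V6) ∈ P := by
        refine ⟨h.cent_c (hle g.2) (mul_inv_eq_iff_eq_mul.1 (hfix g fun q hq => ?_)), g.2⟩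
        exact (Subgroup.mem_normalizer_iff.1 hg ⟨q, hq.2⟩).1 hq
      exact Subtype.ext (hPcomm _ hp _ hgP)
    have hcomp := MonoidHom.ker_transferSylow_isComplement' P' hN
    have hodd : Odd (Nat.card (MonoidHom.transferSylow P' hN).ker) :=
      Nat.odd_iff.2 (Nat.two_dvd_ne_zero.1 (MonoidHom.not_dvd_card_ker_transferSylow P' hN))
    set N := (MonoidHom.transferSylow P' hN).ker.map K1.subtype with hNd
    have hNcard : Nat.card N = Nat.card (MonoidHom.transferSylow P' hN).ker :=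
      Subgroup.card_map_of_injective K1.subtype_injective
    have hP' : Nat.card (P' : Subgroup K1) = 4 := by
      show Nat.card (P.subgroupOf K1) = 4
      rw [Nat.card_congr (Subgroup.subgroupOfEquivOfLe inf_le_right).toEquiv, hP4]
    have inv : ∀ u ∈ K, ∀ n ∈ N, u * n * u⁻¹ ∈ N := by
      rintro u hu n ⟨z, hz, rfl⟩
      let y : K1 := ⟨u * z * u⁻¹, hnorm u hu z z.2⟩
      refine ⟨y, ?_, rfl⟩
      have hoy : Odd (orderOf y) := by
        have hzo : Odd (orderOf z) := hodd.of_dvd_nat (Subgroup.orderOf_dvd_natCard _ hz)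
        rwa [← Subgroup.orderOf_coe, show ((y : Equiv.Perm V6)) = MulAut.conj u (z : Equiv.Perm V6) from rfl,
          MulEquiv.orderOf_eq, Subgroup.orderOf_coe]
      rw [SetLike.mem_coe, MonoidHom.mem_ker]
      refine orderOf_eq_one_iff.1 (Nat.eq_one_of_dvd_coprimes
        ((Nat.coprime_two_right.2 hoy).pow_right 2) (orderOf_map_dvd _ y) ?_)
      rw [show 2 ^ 2 = Nat.card (P' : Subgroup K1) from hP'.symm]
      exact orderOf_dvd_natCard _
    have hbot : N = ⊥ := h.odd_bot ((Subgroup.map_subtype_le _).trans hle) (hNcard ▸ hodd)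
      (inv _ (h.le sP_mem)) (inv _ h.cP_memK)
    rw [hbot, Subgroup.card_bot] at hNcard
    have hmul' := hcomp.card_mul_card
    rw [← hNcard, one_mul, hP'] at hmul'
    omega
  · right
    push Not at hfix
    obtain ⟨g, hgP, hgc⟩ := hfix
    set y := (g : Equiv.Perm V6) * cP * (g : Equiv.Perm V6)⁻¹ with hy
    have hyP : y ∈ P := hgP cP hcP
    have hy2 : y * y = 1 := by
      rw [hy, show (g : Equiv.Perm V6) * cP * (g : Equiv.Perm V6)⁻¹ * (g * cP * (g : Equiv.Perm V6)⁻¹) =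
        g * (cP * cP) * (g : Equiv.Perm V6)⁻¹ by group, gen_sq.2.2, mul_one, mul_inv_cancel]
    have hy1 : y ≠ 1 := fun e => d8L_sub_checks.2.2.2.1 (conj_eq_one_iff.1 e)
    obtain ⟨x, o, ht, hxy, hxP⟩ : ∃ x o, Typ x o ∧ (y = x ∨ y = x * cP) ∧ x ∈ P := by
      rcases d8L_invol y (mem_D8.1 hyP.1) hy2 hy1 with e | e | e | e | e
      · exact absurd e hgc
      · exact ⟨sP, tP, Or.inl ⟨rfl, rfl⟩, Or.inl e, e ▸ hyP⟩
      · exact ⟨tP, sP, Or.inr ⟨rfl, rfl⟩, Or.inl e, e ▸ hyP⟩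
      · refine ⟨sP, tP, Or.inl ⟨rfl, rfl⟩, Or.inr e, ?_⟩
        have := mul_mem (e ▸ hyP : sP * cP ∈ P) hcP
        rwa [mul_assoc, gen_sq.2.2, mul_one] at this
      · refine ⟨tP, sP, Or.inr ⟨rfl, rfl⟩, Or.inr e, ?_⟩
        have := mul_mem (e ▸ hyP : tP * cP ∈ P) hcP
        rwa [mul_assoc, gen_sq.2.2, mul_one] at this
    have T := ht.rel
    have hPset : ∀ z ∈ P, z = 1 ∨ z = x ∨ z = cP ∨ z = x * cP := fun z hz =>
      T.four z (mem_D8.1 hz.1) (hPcomm z hz x hxP)
    have hox : o * (x * cP) * o⁻¹ = x := by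
      rw [show o * (x * cP) * o⁻¹ = o * x * o⁻¹ * (o * cP * o⁻¹) by group, T.ox, T.oc, mul_assoc, gen_sq.2.2,
        mul_one]
    obtain ⟨w, hw, hwc, hwP⟩ : ∃ w ∈ K, w * cP * w⁻¹ = x * cP ∧ ∀ p ∈ P, w * p * w⁻¹ ∈ P := by
      rcases hxy with e | e
      · refine ⟨o * g, mul_mem (h.le T.oD) (hle g.2), ?_, fun p hp => ?_⟩
        · rw [show o * g * cP * (o * g)⁻¹ = o * y * o⁻¹ by rw [hy]; group, e, T.ox]
        · rw [show o * g * p * (o * g)⁻¹ = o * ((g : Equiv.Perm V6) * p * (g : Equiv.Perm V6)⁻¹) * o⁻¹ by group]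
          have hq := hgP p hp
          exact Subgroup.mem_inf.2 ⟨Subgroup.mul_mem _ (Subgroup.mul_mem _ T.oD hq.1) (Subgroup.inv_mem _ T.oD),
            hnorm o (h.le T.oD) _ hq.2⟩
      · exact ⟨g, hle g.2, e, hgP⟩
    have hwx : w * x * w⁻¹ = cP ∨ w * x * w⁻¹ = x := by
      rcases hPset _ (hwP x hxP) with e | e | e | e
      · exact absurd (conj_eq_one_iff.1 e) T.x1
      · exact Or.inr e
      · exact Or.inl e
      · exact absurd ((MulAut.conj w).injective (e.trans hwc.symm)) T.xne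
    obtain ⟨r, hr⟩ := h.cyc_of_swap ht hw hwc hwx
    obtain ⟨a, haK, ha3, hac, haf, -⟩ := h.exists_three ht hr
    refine ⟨?_, a, haK, ha3, haf⟩
    have haK1 : a ∈ K1 := by
      have := hsq (a * a) (mul_mem haK haK)
      rwa [show a * a * (a * a) = a * a ^ 3 by simp only [pow_succ, pow_zero, one_mul, mul_assoc], show a ^ 3 = 1 from ha3 ▸ pow_orderOf_eq_one a,
        mul_one] at this
    let tt : K1 := ⟨cP, hcP.2⟩
    let ss : K1 := ⟨x, hxP.2⟩
    have ht2 : tt * tt = 1 := Subtype.ext gen_sq.2.2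
    have htt : orderOf tt = 2 := orderOf_eq_prime (by rw [pow_two, ht2])
      fun e => d8L_sub_checks.2.2.2.1 (congrArg Subtype.val e)
    have hss : orderOf ss = 2 := orderOf_eq_prime (by rw [pow_two]; exact Subtype.ext T.xx)
      fun e => T.x1 (congrArg Subtype.val e)
    have hcs : ∀ z : K1, (z : Equiv.Perm V6) * cP = cP * z → z ∈ Subgroup.zpowers tt ⊔ Subgroup.zpowers ss := by
      intro z hz
      have hs' := Subgroup.mem_sup_right (S := Subgroup.zpowers tt) (Subgroup.mem_zpowers ss)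
      have ht' := Subgroup.mem_sup_left (T := Subgroup.zpowers ss) (Subgroup.mem_zpowers tt)
      rcases hPset _ ⟨h.cent_c (hle z.2) hz, z.2⟩ with e | e | e | e
      · rw [show z = 1 from Subtype.ext e]; exact one_mem _
      · rwa [show z = ss from Subtype.ext e]
      · rwa [show z = tt from Subtype.ext e]
      · rw [show z = ss * tt from Subtype.ext e]; exact mul_mem hs' ht'
    have hzt : ∀ z ∈ Subgroup.zpowers tt, z = 1 ∨ z = tt := by
      intro z hz
      obtain ⟨i, rfl⟩ := Subgroup.mem_zpowers_iff.1 hz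
      rcases Int.even_or_odd' i with ⟨k, rfl | rfl⟩
      · left; rw [zpow_mul, show tt ^ (2 : ℤ) = tt * tt from zpow_two tt, ht2, one_zpow]
      · right; rw [zpow_add, zpow_mul, show tt ^ (2 : ℤ) = tt * tt from zpow_two tt, ht2, one_zpow, one_mul, zpow_one]
    have hB : BSW.Hyp tt (Subgroup.zpowers tt) ss := by
      refine ⟨htt, fun a ha b hb => ?_, Subgroup.zpowers_le.2 (BSW.self_mem_Cz tt), Subgroup.mem_zpowers tt, hss,
        BSW.mem_Cz.2 (Subtype.ext T.xc), fun e => ?_, ?_, ?_, fun z hz => ?_, fun g hg => ?_, ?_⟩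
      · obtain ⟨i, rfl⟩ := Subgroup.mem_zpowers_iff.1 ha
        obtain ⟨j, rfl⟩ := Subgroup.mem_zpowers_iff.1 hb
        exact ((Commute.refl tt).zpow_zpow i j).eq
      · rcases hzt _ e with e | e
        · exact T.x1 (congrArg Subtype.val e)
        · exact T.xne (congrArg Subtype.val e)
      · refine le_antisymm (sup_le (Subgroup.zpowers_le.2 (BSW.self_mem_Cz tt))
          (Subgroup.zpowers_le.2 (BSW.mem_Cz.2 (Subtype.ext T.xc)))) fun z hz => ?_
        exact hcs z (congrArg Subtype.val (BSW.mem_Cz.1 hz))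
      · refine inf_eq_left.2 (Subgroup.zpowers_le.2 (BSW.mem_Cz.2 (Subtype.ext T.xc.symm)))
      · rcases hzt z hz with rfl | rfl
        · simp
        · rw [show ss * tt * ss⁻¹ = tt from mul_inv_eq_iff_eq_mul.2 (Subtype.ext T.xc),
            inv_eq_of_mul_eq_one_right ht2]
      · rw [Subgroup.eq_bot_iff_forall]
        rintro z ⟨hz1, w, hw, rfl⟩
        rcases hzt _ hw with rfl | rfl
        · exact map_one _
        · rcases hzt _ hz1 with e | e
          · exact e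
          · exact absurd (BSW.mem_Cz'.2 e) hg
      · have a1 : (a : Equiv.Perm V6) * cP * a⁻¹ = x * cP := hac.hc
        have a2 : a * (x * cP) * a⁻¹ = x := by
          rw [show a * (x * cP) * a⁻¹ = a * x * a⁻¹ * (a * cP * a⁻¹) by group, hac.hx, a1, T.xc, ← mul_assoc,
            gen_sq.2.2, one_mul]
        let aa : K1 := ⟨a, haK1⟩
        have into : ∀ u : K1, orderOf u = 2 → IsConj u tt := by
          intro u hu
          obtain ⟨Q, hQ⟩ := (IsPGroup.of_card (n := 1) (by rw [Nat.card_zpowers, hu, pow_one]) :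
            IsPGroup 2 (Subgroup.zpowers u)).exists_le_sylow
          obtain ⟨q, hq⟩ := MulAction.exists_smul_eq K1 Q P'
          have hmemP : q * u * q⁻¹ ∈ ((q • Q : Sylow 2 K1) : Subgroup K1) := by
            rw [Sylow.smul_def]
            exact Subgroup.smul_mem_pointwise_smul u (MulAut.conj q) Q (hQ (Subgroup.mem_zpowers u))
          rw [hq] at hmemP
          rcases hPset _ hmemP with e | e | e | e <;> simp only [Subgroup.subtype_apply] at e
          · have : q * u * q⁻¹ = 1 := Subtype.ext e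
            rw [conj_eq_one_iff] at this
            rw [this, orderOf_one] at hu
            exact absurd hu (by norm_num)
          · refine isConj_iff.2 ⟨aa * q, Subtype.ext ?_⟩
            rw [show aa * q * u * (aa * q)⁻¹ = aa * (q * u * q⁻¹) * aa⁻¹ by group]
            show a * ((q * u * q⁻¹ : K1) : Equiv.Perm V6) * a⁻¹ = cP
            rw [e, hac.hx]
          · exact isConj_iff.2 ⟨q, Subtype.ext e⟩
          · refine isConj_iff.2 ⟨aa * aa * q, Subtype.ext ?_⟩
            rw [show aa * aa * q * u * (aa * aa * q)⁻¹ = aa * (aa * (q * u * q⁻¹) * aa⁻¹) * aa⁻¹ by group]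
            show a * (a * ((q * u * q⁻¹ : K1) : Equiv.Perm V6) * a⁻¹) * a⁻¹ = cP
            rw [e, a2, hac.hx]
        exact fun u v hu hv => (into u hu).trans (into v hv).symm
    haveI := Fintype.ofFinite K1
    have hk2 : Nat.card (Subgroup.zpowers tt) = 2 := by rw [Nat.card_zpowers, htt]
    rcases BSW.small_card hB hk2 with e | e <;> omega

/-- **The possible orders.** -/
theorem KGroup.types : Nat.card K = 8 ∨
    ((Nat.card K = 24 ∨ Nat.card K = 120) ∧ ∃ a ∈ K, orderOf a = 3 ∧ Nat.card {v : V6 // a v = v} ≤ 4) ∨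
    (Nat.card K = 168 ∧ ∃ a ∈ K, ∃ w ∈ K, orderOf a = 3 ∧ Nat.card {v : V6 // a v = v} ≤ 4 ∧ orderOf w = 7 ∧
      Nat.card {v : V6 // w v = v} ≤ 4) := by
  by_cases hH : ∃ H : Subgroup K, H.index = 2
  · obtain ⟨H, hH⟩ := hH
    rcases h.types_index_two hH with e | e
    · exact Or.inl e
    · exact Or.inr (Or.inl e)
  · exact Or.inr (Or.inr (h.types_perfect fun H e => hH ⟨H, e⟩))

end Cfsg.Agent.M24SylQ
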