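import Cfsg.Agent.Lib.M24SylQ.Model

/-!
Linear maps of the six-dimensional module: evaluation on a basis and the maps acting trivially on the layers
of an involution.
-/

set_option autoImplicit false

namespace Cfsg.Agent.M24SylQ

theorem vx_val (a b : V6) : (vx a b).val = Nat.xor a.val b.val :=
  Nat.mod_eq_of_lt (Nat.xor_lt_two_pow (n := 6) a.isLt b.isLt)

theorem vx_comm (a b : V6) : vx a b = vx b a :=
  Fin.ext (by rw [vx_val, vx_val]; exact Nat.xor_comm _ _)

theorem vx_assoc (a b c : V6) : vx (vx a b) c = vx a (vx b c) :=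
  Fin.ext (by simp only [vx_val]; exact Nat.xor_assoc _ _ _)

theorem vx_self (a : V6) : vx a a = 0 := Fin.ext (by rw [vx_val]; exact Nat.xor_self _)

theorem vx_zero (a : V6) : vx a 0 = a := Fin.ext (by rw [vx_val]; exact Nat.xor_zero _)

theorem zero_vx (a : V6) : vx 0 a = a := by rw [vx_comm, vx_zero]

theorem vx_vx (a b : V6) : vx (vx a b) b = a := by rw [vx_assoc, vx_self, vx_zero]

theorem vx_left_comm (a b c : V6) : vx a (vx b c) = vx b (vx a c) := by
  rw [← vx_assoc, vx_comm a b, vx_assoc]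

theorem vx_eq_zero {a b : V6} (h : vx a b = 0) : a = b := by
  have := vx_vx a b
  rw [h, zero_vx] at this
  exact this.symm

theorem IsLin.map_zero {f : Equiv.Perm V6} (h : IsLin f) : f 0 = 0 := by
  rw [← vx_self (0 : V6), h, vx_self, vx_self]

theorem IsLin.one : IsLin 1 := fun _ _ => rfl

theorem IsLin.mul {f g : Equiv.Perm V6} (hf : IsLin f) (hg : IsLin g) : IsLin (f * g) := fun a b => by
  rw [Equiv.Perm.mul_apply, hg, hf]; rfl

theorem IsLin.inv {f : Equiv.Perm V6} (hf : IsLin f) : IsLin f⁻¹ := fun a b => f.injective (by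
  rw [hf]; simp)

theorem IsLin.pow {f : Equiv.Perm V6} (hf : IsLin f) : ∀ n : ℕ, IsLin (f ^ n)
  | 0 => by rw [pow_zero]; exact IsLin.one
  | n + 1 => by rw [pow_succ]; exact (hf.pow n).mul hf

/-- Select a vector by a bit. -/
def sel (v : V6) (i : ℕ) (a : V6) : V6 := bif bv v i then a else 0

/-- The linear map with given images of the basis. -/
def mk6 (a0 a1 a2 a3 a4 a5 v : V6) : V6 :=
  vx (sel v 0 a0) (vx (sel v 1 a1) (vx (sel v 2 a2) (vx (sel v 3 a3) (vx (sel v 4 a4) (sel v 5 a5)))))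

theorem mk6_basis : ∀ v, mk6 1 2 4 8 16 32 v = v := by decide +kernel

theorem IsLin.eval {f : Equiv.Perm V6} (h : IsLin f) (v : V6) :
    f v = mk6 (f 1) (f 2) (f 4) (f 8) (f 16) (f 32) v := by
  have hs : ∀ i a, f (sel v i a) = sel v i (f a) := fun i a => by
    rw [sel, sel]; cases bv v i
    · simp only [cond_false, h.map_zero]
    · rfl
  conv_lhs => rw [← mk6_basis v]
  simp only [mk6, h _ _, hs]

theorem IsLin.ext6 {f g : Equiv.Perm V6} (hf : IsLin f) (hg : IsLin g) (h1 : f 1 = g 1) (h2 : f 2 = g 2)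
    (h4 : f 4 = g 4) (h8 : f 8 = g 8) (h16 : f 16 = g 16) (h32 : f 32 = g 32) : f = g :=
  Equiv.ext fun v => by rw [hf.eval, hg.eval, h1, h2, h4, h8, h16, h32]

/-- The difference to the identity. -/
def dl (f : Equiv.Perm V6) (v : V6) : V6 := vx (f v) v

theorem dl_lin {f : Equiv.Perm V6} (h : IsLin f) (a b : V6) : dl f (vx a b) = vx (dl f a) (dl f b) := by
  simp only [dl, h a b, vx_assoc, vx_left_comm]

theorem apply_eq_dl (f : Equiv.Perm V6) (v : V6) : f v = vx (dl f v) v := (vx_vx _ _).symm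

/-- Trivial on the three layers given by the involution `k`. -/
structure Layer (k g : Equiv.Perm V6) : Prop where
  lin : IsLin g
  top : ∀ v, k (dl g v) = dl g v
  mid : ∀ v, k v = v → ∃ w, dl g v = dl k w
  bot : ∀ w, g (dl k w) = dl k w

variable {k : Equiv.Perm V6}

theorem dl_fixed (hk : IsLin k) (hk2 : k * k = 1) (w : V6) : k (dl k w) = dl k w := by
  rw [dl, hk, ← Equiv.Perm.mul_apply, hk2, Equiv.Perm.one_apply, vx_comm]

theorem Layer.fixed {g : Equiv.Perm V6} (hk : IsLin k) (hk2 : k * k = 1) (h : Layer k g) {v : V6} (hv : k v = v) :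
    k (g v) = g v := by
  obtain ⟨w, hw⟩ := h.mid v hv
  rw [apply_eq_dl g v, hw, hk, dl_fixed hk hk2, hv]

theorem Layer.one (hk : IsLin k) : Layer k 1 := by
  have h0 : ∀ v, dl 1 v = 0 := fun v => vx_self v
  exact ⟨IsLin.one, fun v => by rw [h0, hk.map_zero], fun v _ => ⟨0, by rw [h0, dl, hk.map_zero, vx_self]⟩,
    fun w => rfl⟩

theorem Layer.mul {f g : Equiv.Perm V6} (hk : IsLin k) (hk2 : k * k = 1) (hf : Layer k f) (hg : Layer k g) :
    Layer k (f * g) := by
  have e : ∀ v, dl (f * g) v = vx (dl f (g v)) (dl g v) := fun v => by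
    simp only [dl, Equiv.Perm.mul_apply, vx_assoc]
    rw [← vx_assoc (g v) (g v), vx_self, zero_vx]
  refine ⟨hf.lin.mul hg.lin, fun v => by rw [e, hk, hf.top, hg.top], fun v hv => ?_, fun w => ?_⟩
  · obtain ⟨a, ha⟩ := hf.mid _ (hg.fixed hk hk2 hv)
    obtain ⟨b, hb⟩ := hg.mid v hv
    exact ⟨vx a b, by rw [e, ha, hb, dl_lin hk]⟩
  · rw [Equiv.Perm.mul_apply, hg.bot, hf.bot]

theorem Layer.conj {r g : Equiv.Perm V6} (hr : IsLin r) (hrk : r * k = k * r) (hg : Layer k g) :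
    Layer k (r * g * r⁻¹) := by
  have c1 : ∀ v, k (r v) = r (k v) := fun v => by
    rw [← Equiv.Perm.mul_apply, ← Equiv.Perm.mul_apply, hrk]
  have c2 : ∀ v, k (r⁻¹ v) = r⁻¹ (k v) := fun v => r.injective (by rw [← c1]; simp)
  have e : ∀ v, dl (r * g * r⁻¹) v = r (dl g (r⁻¹ v)) := fun v => by
    simp only [dl, Equiv.Perm.mul_apply, hr _ _]; simp
  have d : ∀ w, dl k (r w) = r (dl k w) := fun w => by simp only [dl, hr _ _, c1]
  refine ⟨(hr.mul hg.lin).mul hr.inv, fun v => by rw [e, c1, hg.top], fun v hv => ?_, fun w => ?_⟩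
  · obtain ⟨w, hw⟩ := hg.mid _ (show k (r⁻¹ v) = r⁻¹ v by rw [c2, hv])
    exact ⟨r w, by rw [e, hw, d]⟩
  · have d' : dl k w = r (dl k (r⁻¹ w)) := by rw [← d]; simp
    rw [d', Equiv.Perm.mul_apply, Equiv.Perm.mul_apply, Equiv.Perm.inv_def, Equiv.symm_apply_apply, hg.bot]

theorem Layer.pow_four {g : Equiv.Perm V6} (h : Layer k g) : g ^ 4 = 1 := by
  have h3 : ∀ v, dl g (dl g (dl g v)) = 0 := fun v => by
    obtain ⟨w, hw⟩ := h.mid _ (h.top v)
    rw [hw, dl, h.bot, vx_self]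
  have hsq : ∀ v, (g * g) v = vx (dl g (dl g v)) v := fun v => by
    rw [Equiv.Perm.mul_apply]
    conv_lhs => rw [apply_eq_dl g (g v), apply_eq_dl g v, dl_lin h.lin]
    rw [vx_assoc, ← vx_assoc (dl g v) (dl g v), vx_self, zero_vx]
  ext v
  rw [show g ^ 4 = (g * g) * (g * g) by rw [← pow_two g, ← pow_add g 2 2], Equiv.Perm.mul_apply, hsq, hsq, dl_lin h.lin, dl_lin h.lin,
    h3, zero_vx, ← vx_assoc, vx_self, zero_vx, Equiv.Perm.one_apply]

/-- The layer conditions, as a check. -/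
def layerB (k g : Equiv.Perm V6) : Bool :=
  decide ((∀ v, k (dl g v) = dl g v) ∧ (∀ v, k v = v → ∃ w, dl g v = dl k w) ∧ ∀ w, g (dl k w) = dl k w)

theorem Layer.of_bool {g : Equiv.Perm V6} (hg : IsLin g) (h : layerB k g = true) : Layer k g := by
  obtain ⟨h1, h2, h3⟩ := of_decide_eq_true h
  exact ⟨hg, h1, h2, h3⟩

end Cfsg.Agent.M24SylQ
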