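import Mathlib.GroupTheory.Perm.Sign
import Mathlib.Data.Fintype.Perm
import Mathlib.GroupTheory.PGroup

/-!
The module of the quotient of a Sylow 2-subgroup of the Mathieu group of degree 24 by its centre, in
coordinates: six bits `x₂ x₃ x₄ y₂ y₃ y₄` acted on by the unitriangular 3 × 3 matrices (a dihedral group).
-/

set_option autoImplicit false

namespace Cfsg.Agent.M24SylQ

/-- The six-dimensional module. -/
abbrev V6 := Fin 64

/-- Addition. -/
def vx (a b : V6) : V6 := ⟨Nat.xor a.val b.val % 64, Nat.mod_lt _ (by decide)⟩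

/-- A bit. -/
def bv (a : V6) (i : ℕ) : Bool := Nat.testBit a.val i

/-- Add the vector `e` if the bit `i` is set. -/
def shear (i : ℕ) (e : V6) (a : V6) : V6 := if bv a i then vx a e else a

/-- The first reflection: `x₃ += x₂`, `y₂ += y₃`. -/
def sFun (a : V6) : V6 := shear 4 8 (shear 0 2 a)

/-- The second reflection: `x₄ += x₃`, `y₃ += y₄`. -/
def tFun (a : V6) : V6 := shear 5 16 (shear 1 4 a)

theorem sFun_sq : ∀ a, sFun (sFun a) = a := by decide +kernel
theorem tFun_sq : ∀ a, tFun (tFun a) = a := by decide +kernel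

/-- The first reflection as a permutation. -/
def sP : Equiv.Perm V6 := ⟨sFun, sFun, sFun_sq, sFun_sq⟩

/-- The second reflection as a permutation. -/
def tP : Equiv.Perm V6 := ⟨tFun, tFun, tFun_sq, tFun_sq⟩

/-- The dihedral group. -/
def D8 : Subgroup (Equiv.Perm V6) := Subgroup.closure {sP, tP}

/-- The linear maps. -/
def IsLin (f : Equiv.Perm V6) : Prop := ∀ a b, f (vx a b) = vx (f a) (f b)

/-- A group of linear maps with the dihedral group as Sylow 2-subgroup. -/
structure KGroup (K : Subgroup (Equiv.Perm V6)) : Prop where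
  lin : ∀ f ∈ K, IsLin f
  le : D8 ≤ K
  odd : ¬ 2 ∣ D8.relIndex K

theorem sP_lin : IsLin sP := by unfold IsLin; decide +kernel
theorem tP_lin : IsLin tP := by unfold IsLin; decide +kernel

end Cfsg.Agent.M24SylQ
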